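import Cfsg.Agent.Lib.JComp.Graph

/-!
# The pair of components at `T`
-/

set_option autoImplicit false

namespace Cfsg.Agent.Lib.JComp

open Subgroup
open scoped commutatorElement IsMulCommutative

variable {G : Type*} [Group G] [Finite G] {T A B K : Subgroup G} {x w : G}

theorem Side.core_eq (s : Side T K x w) : T ⊓ K = pCoreOf 2 K := by
  refine le_antisymm (fun g hg => ?_) (le_inf s.core_le (CharP.pCoreOf_le K))
  have hgK : g ∈ ((pCoreOf 2 K ⊔ zpowers x : Subgroup G) : Set G) := by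
    rw [eq_sup_zpowers s.comp s.x_mem s.x_not]; exact hg.2
  rw [coe_mul_of_right_le_normalizer_left _ _
      (zpowers_le.2 (CharP.le_normalizer_pCoreOf K s.x_mem))] at hgK
  obtain ⟨r, hr, y, hy, rfl⟩ := hgK
  show r * y ∈ pCoreOf 2 K
  have h1 : y ∈ T := by
    have := T.mul_mem (T.inv_mem (s.core_le hr)) hg.1
    rwa [inv_mul_cancel_left] at this
  rw [CharP.eq_one_of_mem_of_coprime s.isPGroup h1
    (Nat.coprime_two_right.2 (Odd.of_dvd_nat s.odd (orderOf_dvd_of_mem_zpowers hy))), mul_one]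
  exact hr

theorem Side.card_T (s : Side T K x w) :
    Nat.card T = 2 * Nat.card ↥(T ⊓ centralizer (wOf K : Set G)) := by
  refine le_antisymm (card_le_two_mul inf_le_left fun _ ha _ hb ha' hb' =>
    s.mul_mem_Q ha hb ha' hb') ?_
  obtain ⟨a, ha, haQ⟩ := s.exists_J_not_mem
  exact two_mul_card_le inf_le_left (Thompson.thompsonSubgroupOf_le 2 T ha) haQ

theorem Side.card_sup (s : Side T K x w) : Nat.card ↥(K ⊔ T) = 3 * Nat.card T := by
  set N := normalizer (K : Set G) with hN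
  have hKN : K ≤ N := Subgroup.le_normalizer
  have hn : (K.subgroupOf N).Normal := normal_subgroupOf_of_le_normalizer le_rfl
  have h1 : K.relIndex (K ⊔ T) = K.relIndex T := by
    have := relIndex_sup_left (T.subgroupOf N) (K.subgroupOf N)
    rwa [← subgroupOf_sup hKN s.le_norm, relIndex_subgroupOf (sup_le hKN s.le_norm),
      relIndex_subgroupOf s.le_norm] at this
  have h2 := relIndex_mul_relIndex ⊥ K (K ⊔ T) bot_le le_sup_left
  have h3 := relIndex_mul_relIndex ⊥ (T ⊓ K) T bot_le inf_le_left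
  have h4 := relIndex_mul_relIndex ⊥ (pCoreOf 2 K) K bot_le (CharP.pCoreOf_le K)
  rw [relIndex_bot_left, relIndex_bot_left, h1] at h2
  rw [relIndex_bot_left, relIndex_bot_left, inf_relIndex_left, s.core_eq] at h3
  rw [relIndex_bot_left, relIndex_bot_left, s.comp.2.2.1] at h4
  rw [← h2, ← h3, ← h4]
  ring

theorem Side.pCoreOf_sup (s : Side T K x w) (hS : IsSylowTwoIn T (K ⊔ T)) :
    pCoreOf 2 (K ⊔ T) = T ⊓ centralizer (wOf K : Set G) := by
  have hle : T ⊓ centralizer (wOf K : Set G) ≤ pCoreOf 2 (K ⊔ T) :=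
    CharP.le_pCoreOf (inf_le_left.trans le_sup_right) (s.isPGroup.to_le inf_le_left)
      (sup_le s.K_le_norm_Q s.T_le_norm_Q)
  refine le_antisymm (fun g hg => ?_) hle
  have hgT := pCoreOf_le_sylowTwoIn hS hg
  by_contra hgQ
  have hr : g * x * g⁻¹ * x ∈ pCoreOf 2 (K ⊔ T) :=
    hle (s.core_le_Q (s.inverts hgT hgQ))
  have hxn : x ∈ normalizer (pCoreOf 2 (K ⊔ T) : Set G) :=
    CharP.le_normalizer_pCoreOf _ (mem_sup_left (T := T) s.x_mem)
  have he : g * (x * g⁻¹ * x⁻¹) ∈ pCoreOf 2 (K ⊔ T) :=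
    mul_mem hg (conj_mem le_rfl hxn (inv_mem hg))
  have hxx : x * x ∈ pCoreOf 2 (K ⊔ T) := by
    have := mul_mem (inv_mem he) hr
    rwa [show (g * (x * g⁻¹ * x⁻¹))⁻¹ * (g * x * g⁻¹ * x) = x * x by group] at this
  have hx : x ∈ pCoreOf 2 (K ⊔ T) := by
    have := mul_mem hxx hxx
    rwa [show x * x * (x * x) = x * (x * (x * x)) by group, ← pow_three, s.x_pow, mul_one] at this
  exact s.x_not (CharP.eq_one_of_mem_of_coprime (CharP.pCoreOf_isPGroup _) hx
    (Nat.coprime_two_right.2 s.odd) ▸ one_mem _)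

/-- The properties of `P = K T`. -/
theorem Good.sup_facts (g : Good T K) :
    centralizer (pCoreOf 2 (K ⊔ T) : Set G) ≤ pCoreOf 2 (K ⊔ T) ∧
    IsSylowTwoIn T (K ⊔ T) ∧ (pCoreOf 2 (K ⊔ T)).relIndex (K ⊔ T) = 6 ∧
    ¬ ⁅K ⊔ T, K ⊔ T⁆ ≤ pCoreOf 2 (K ⊔ T) ∧ ⁅omegaCenterOf T, K ⊔ T⁆ ≠ ⊥ := by
  obtain ⟨x, w, s⟩ := g.exists_side
  have hS := g.uq.isSylow_sup
  have hQ := s.pCoreOf_sup hS
  refine ⟨?_, hS, ?_, fun h => ?_, fun h => ?_⟩
  · rw [hQ, g.core]
    exact g.uq.mem.2.2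
  · have h1 := relIndex_mul_relIndex ⊥ (pCoreOf 2 (K ⊔ T)) (K ⊔ T) bot_le (CharP.pCoreOf_le _)
    rw [relIndex_bot_left, relIndex_bot_left, s.card_sup, s.card_T, ← hQ,
      show 3 * (2 * Nat.card ↥(pCoreOf 2 (K ⊔ T))) = Nat.card ↥(pCoreOf 2 (K ⊔ T)) * 6 by ring] at h1
    exact Nat.eq_of_mul_eq_mul_left Nat.card_pos h1
  · refine s.x_not (s.core_eq ▸ ⟨?_, s.x_mem⟩ : x ∈ pCoreOf 2 K)
    have hle : K ≤ pCoreOf 2 (K ⊔ T) :=
      (show K = ⁅K, thompsonSubgroupOf 2 T⁆ from s.comp.2.1.symm).le.trans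
        ((commutator_mono le_sup_left
          ((Thompson.thompsonSubgroupOf_le 2 T).trans le_sup_right)).trans h)
    exact pCoreOf_le_sylowTwoIn hS (hle s.x_mem)
  · have hw : w ∈ omegaCenterOf T := by
      rw [omegaCenterOf_eq_omegaJ g.zc]; exact s.w_mem_omegaJ
    have := commutator_eq_bot_iff_le_centralizer.1 h hw
    exact s.conj_x_not_mem s.w_mem s.w_ne
      (mul_inv_eq_iff_eq_mul.2 (mem_centralizer_iff.1 this x (mem_sup_left (T := T) s.x_mem)))

/-- The pair: `Q_A`, `Q_B` are the elementary abelian subgroups of largest order of `T`. -/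
structure AmalFacts (T A B : Subgroup G) : Prop where
  card_eq : Nat.card ↥(T ⊓ centralizer (wOf A : Set G)) =
    Nat.card ↥(T ⊓ centralizer (wOf B : Set G))
  card_cases : Nat.card ↥(T ⊓ centralizer (wOf A : Set G)) = 4 ∨
    Nat.card ↥(T ⊓ centralizer (wOf A : Set G)) = 8
  card_inter : Nat.card ↥(T ⊓ centralizer (wOf A : Set G)) = 2 *
    Nat.card ↥((T ⊓ centralizer (wOf A : Set G)) ⊓ (T ⊓ centralizer (wOf B : Set G)))
  elem_left : IsElementaryAbelian 2 (T ⊓ centralizer (wOf A : Set G))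
  elem_right : IsElementaryAbelian 2 (T ⊓ centralizer (wOf B : Set G))
  ne : T ⊓ centralizer (wOf A : Set G) ≠ T ⊓ centralizer (wOf B : Set G)
  invol : ∀ t ∈ T, t * t = 1 →
    t ∈ T ⊓ centralizer (wOf A : Set G) ∨ t ∈ T ⊓ centralizer (wOf B : Set G)
  central : (T ⊓ centralizer (wOf A : Set G)) ⊓ (T ⊓ centralizer (wOf B : Set G)) ≤
    centralizer (T : Set G)

theorem ElemAbelian_of_sq {Q : Subgroup G} (h : ∀ q ∈ Q, q * q = 1) : IsElementaryAbelian 2 Q := by
  refine ElemAbelian.of_comm_of_pow (fun a ha b hb => ?_) fun a ha => by rw [sq]; exact h a ha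
  have hi : ∀ q ∈ Q, q⁻¹ = q := fun q hq => inv_eq_of_mul_eq_one_left (h q hq)
  calc a * b = (a * b)⁻¹ := (hi _ (mul_mem ha hb)).symm
    _ = b * a := by rw [mul_inv_rev, hi a ha, hi b hb]

theorem amalFacts (gA : Good T A) (gB : Good T B)
    (hnc : ¬ wOf A ≤ centralizer (wOf B : Set G)) : AmalFacts T A B := by
  obtain ⟨x, wa, sa⟩ := gA.exists_side
  obtain ⟨y, wb, sb⟩ := gB.exists_side
  have hne : B ≠ A := fun e => hnc (e ▸ gA.wOf_le.2)
  have hnc' : ¬ wOf B ≤ centralizer (wOf A : Set G) := fun h => hnc (le_centralizer_iff.1 h)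
  have sm := small sa sb hnc (gA.dis gB hne)
  have sm' := small sb sa hnc' (gB.dis gA hne.symm)
  have h1 := sm'.card₂
  rw [inf_comm (T ⊓ centralizer (wOf B : Set G)) (T ⊓ centralizer (wOf A : Set G))] at h1
  have h2 := sm.card₂
  refine ⟨h1.trans h2.symm, ?_, h1, ElemAbelian_of_sq sm.sq₁, ElemAbelian_of_sq sm.sq₂, ?_,
    sm.invol, sm.central⟩
  · have h4 : 4 ≤ Nat.card ↥(T ⊓ centralizer (wOf A : Set G)) := by
      rw [← sa.comp.2.2.2.2.1]
      exact card_le_of_le gA.wOf_le.1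
    have h8 := sm.card_le
    have : Fact (Nat.Prime 2) := ⟨Nat.prime_two⟩
    obtain ⟨k, hk⟩ := IsPGroup.iff_card.1
      (sa.isPGroup.to_le (inf_le_left : T ⊓ centralizer (wOf A : Set G) ≤ T))
    rw [hk] at h1 h4 ⊢
    have hk4 : k < 4 := by
      by_contra hc
      have := Nat.pow_le_pow_right (show 0 < 2 by norm_num) (show 4 ≤ k by omega)
      omega
    interval_cases k <;> simp_all
  · exact fun e => hnc (gA.wOf_le.1.trans (e.le.trans inf_le_right))

/-- An elementary abelian subgroup of `T` lies in `Q_A` or `Q_B`. -/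
theorem AmalFacts.le_or_le (f : AmalFacts T A B) {U : Subgroup G} (hU : U ≤ T)
    (hsq : ∀ u ∈ U, u * u = 1) :
    U ≤ T ⊓ centralizer (wOf A : Set G) ∨ U ≤ T ⊓ centralizer (wOf B : Set G) := by
  by_contra h
  push Not at h
  obtain ⟨a, ha, haA⟩ := SetLike.not_le_iff_exists.1 h.1
  obtain ⟨b, hb, hbB⟩ := SetLike.not_le_iff_exists.1 h.2
  have haB := (f.invol a (hU ha) (hsq a ha)).resolve_left haA
  have hbA := (f.invol b (hU hb) (hsq b hb)).resolve_right hbB
  rcases f.invol (a * b) (hU (mul_mem ha hb)) (hsq _ (mul_mem ha hb)) with h' | h'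
  · exact haA ((Subgroup.mul_mem_cancel_right _ hbA).1 h')
  · exact hbB ((Subgroup.mul_mem_cancel_left _ haB).1 h')

end Cfsg.Agent.Lib.JComp
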