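import Cfsg.Agent.Lib.JComp.Pair

/-!
# Commuting four-groups: the centre of one component is centralised by the other
-/

set_option autoImplicit false

namespace Cfsg.Agent.Lib.JComp

open Subgroup
open scoped commutatorElement IsMulCommutative

variable {G : Type*} [Group G] [Finite G] {T K₀ K₁ : Subgroup G} {x y w₀ w₁ : G}

set_option maxHeartbeats 1000000 in
/-- If `W₀` and `W₁` commute and `x₁` moves `w₀` then `C_T(W₁) = C_T(W₀)`. -/
theorem eq_of_moved (s₁ : Side T K₁ x w₁) (s₀ : Side T K₀ y w₀)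
    (hcomm : wOf K₀ ≤ centralizer (wOf K₁ : Set G)) (hmove : x * w₀ * x⁻¹ ≠ w₀) :
    T ⊓ centralizer (wOf K₁ : Set G) = T ⊓ centralizer (wOf K₀ : Set G) := by
  set Q₁ := T ⊓ centralizer (wOf K₁ : Set G) with hQ₁
  set Q₀ := T ⊓ centralizer (wOf K₀ : Set G) with hQ₀
  obtain ⟨a, ha, ha1, haw⟩ := s₀.exists_gen
  obtain ⟨z, hz, hz1, hzw⟩ := s₁.exists_gen
  -- basic elements
  set w' := x * w₀ * x⁻¹ with hw'
  set w'' := x⁻¹ * w₀ * x with hw''
  set p₁ := x * a * x⁻¹ with hp₁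
  set p₂ := x⁻¹ * a * x with hp₂
  have hxx : x⁻¹ = x * x := inv_eq_of_mul_eq_one_right (by rw [← pow_three]; exact s₁.x_pow)
  have hW₀Q : ∀ u ∈ wOf K₀, u ∈ Q₁ := fun u hu => ⟨s₀.W_le hu, hcomm hu⟩
  have hxQ : ∀ {q}, q ∈ Q₁ → x * q * x⁻¹ ∈ Q₁ := fun hq => conj_mem le_rfl s₁.x_norm_Q hq
  have hxQ' : ∀ {q}, q ∈ Q₁ → x⁻¹ * q * x ∈ Q₁ := fun hq => by
    have := conj_mem le_rfl (inv_mem s₁.x_norm_Q) hq
    rwa [inv_inv] at this
  have haQ : a ∈ Q₁ := hW₀Q a ha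
  have hwQ : w₀ ∈ Q₁ := hW₀Q w₀ s₀.w_mem
  have hw₀T : ∀ t ∈ T, t * w₀ * t⁻¹ = w₀ := fun t ht =>
    mul_inv_eq_iff_eq_mul.2 (mem_centralizer_iff.1 s₀.w_central t ht)
  have hw'Q : ∀ q ∈ Q₁, q * w' * q⁻¹ = w' := fun q hq => by
    calc q * w' * q⁻¹ = x * ((x⁻¹ * q * x) * w₀ * (x⁻¹ * q * x)⁻¹) * x⁻¹ := by
          rw [hw']; group
      _ = w' := by rw [hw₀T _ (hxQ' hq).1]
  have hw''Q : ∀ q ∈ Q₁, q * w'' * q⁻¹ = w'' := fun q hq => by
    calc q * w'' * q⁻¹ = x⁻¹ * ((x * q * x⁻¹) * w₀ * (x * q * x⁻¹)⁻¹) * x := by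
          rw [hw'']; group
      _ = w'' := by rw [hw₀T _ (hxQ hq).1]
  have hact : ∀ q ∈ Q₁, q * a * q⁻¹ = a ∨ q * a * q⁻¹ = a * w₀ := fun q hq => s₀.conj_W hq.1 ha
  have hact₁ : ∀ q ∈ Q₁, q * p₁ * q⁻¹ = p₁ ∨ q * p₁ * q⁻¹ = p₁ * w' := fun q hq => by
    have e : q * p₁ * q⁻¹ = x * ((x⁻¹ * q * x) * a * (x⁻¹ * q * x)⁻¹) * x⁻¹ := by rw [hp₁]; group
    rcases hact _ (hxQ' hq) with h | h
    · exact Or.inl (by rw [e, h])
    · exact Or.inr (by rw [e, h, hp₁, hw']; group)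
  have hact₂ : ∀ q ∈ Q₁, q * p₂ * q⁻¹ = p₂ ∨ q * p₂ * q⁻¹ = p₂ * w'' := fun q hq => by
    have e : q * p₂ * q⁻¹ = x⁻¹ * ((x * q * x⁻¹) * a * (x * q * x⁻¹)⁻¹) * x := by rw [hp₂]; group
    rcases hact _ (hxQ hq) with h | h
    · exact Or.inl (by rw [e, h])
    · exact Or.inr (by rw [e, h, hp₂, hw'']; group)
  have hsq : a * a = 1 := s₀.W_sq ha
  have hw0sq : w₀ * w₀ = 1 := s₀.W_sq s₀.w_mem
  have hsq' : ∀ {g u : G}, u * u = 1 → (g * u * g⁻¹) * (g * u * g⁻¹) = 1 := fun {g u} h => by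
    calc g * u * g⁻¹ * (g * u * g⁻¹) = g * (u * u) * g⁻¹ := by group
      _ = 1 := by rw [h, mul_one, mul_inv_cancel]
  have hsq'' : ∀ {g u : G}, u * u = 1 → (g⁻¹ * u * g) * (g⁻¹ * u * g) = 1 := fun {g u} h => by
    simpa using hsq' (g := g⁻¹) h
  have hw'sq : w' * w' = 1 := hsq' hw0sq
  have hw''sq : w'' * w'' = 1 := hsq'' hw0sq
  have hw'ne : w' ≠ 1 := fun e => s₀.w_ne (conj_eq_one_iff.1 e)
  have hw''ne : w'' ≠ 1 := fun e => s₀.w_ne (by
    calc w₀ = x * w'' * x⁻¹ := by rw [hw'']; group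
      _ = 1 := by rw [e, mul_one, mul_inv_cancel])
  have hne02 : w'' ≠ w₀ := fun e => hmove (by
    calc w' = x * w'' * x⁻¹ := by rw [e]
      _ = w₀ := by rw [hw'']; group)
  have hne12 : w' ≠ w'' := fun e => hne02 (by
    calc w'' = x * w' * x⁻¹ := by
          rw [hw', hw'', show x * (x * w₀ * x⁻¹) * x⁻¹ = (x * x) * w₀ * (x * x)⁻¹ by group, ← hxx,
            inv_inv]
      _ = x * w'' * x⁻¹ := by rw [e]
      _ = w₀ := by rw [hw'']; group)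
  -- the elements commute
  have hap₁ : a * p₁ = p₁ * a := by
    by_contra hne
    have e1 : p₁ * a * p₁⁻¹ = a * w₀ := (hact _ (hxQ haQ)).resolve_left fun e =>
      hne (mul_inv_eq_iff_eq_mul.1 e).symm
    have e2 : a * p₁ * a⁻¹ = p₁ * w' := (hact₁ _ haQ).resolve_left fun e =>
      hne (mul_inv_eq_iff_eq_mul.1 e)
    refine hmove ?_
    calc w' = p₁⁻¹ * (p₁ * w') := (inv_mul_cancel_left _ _).symm
      _ = a⁻¹ * (a * (p₁⁻¹ * a * p₁) * a⁻¹) := by rw [← e2]; group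
      _ = a⁻¹ * (a * (p₁⁻¹ * a * p₁)⁻¹⁻¹ * a⁻¹) := by rw [inv_inv]
      _ = w₀ := by
        have hp1inv : p₁⁻¹ = p₁ := inv_eq_of_mul_eq_one_left (hsq' hsq)
        have hainv : a⁻¹ = a := inv_eq_of_mul_eq_one_left hsq
        rw [inv_inv, hp1inv]
        nth_rewrite 2 [← hp1inv]
        rw [show a⁻¹ * (a * (p₁ * a * p₁⁻¹) * a⁻¹) = (p₁ * a * p₁⁻¹) * a⁻¹ by group, e1, hainv,
          show a * w₀ * a = a * (w₀ * a) by group, s₀.W_comm s₀.w_mem ha, ← mul_assoc, hsq, one_mul]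
  have hconj : ∀ {g u v : G}, u * v = v * u →
      (g * u * g⁻¹) * (g * v * g⁻¹) = (g * v * g⁻¹) * (g * u * g⁻¹) := fun {g u v} h => by
    calc g * u * g⁻¹ * (g * v * g⁻¹) = g * (u * v) * g⁻¹ := by group
      _ = g * (v * u) * g⁻¹ := by rw [h]
      _ = _ := by group
  have hp₂a : p₂ * a = a * p₂ := by
    have h := hconj (g := x⁻¹) hap₁
    rwa [show x⁻¹ * p₁ * x⁻¹⁻¹ = a by rw [hp₁]; group, inv_inv] at h
  have hp₁₂ : p₁ * p₂ = p₂ * p₁ := by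
    have h := hconj (g := x) hap₁
    rw [show x * p₁ * x⁻¹ = p₂ by
      rw [hp₁, hp₂, show x * (x * a * x⁻¹) * x⁻¹ = x * x * a * (x * x)⁻¹ by group, ← hxx,
        inv_inv]] at h
    exact h
  have hzQ : z ∈ Q₁ := ⟨s₁.W_le hz, mem_centralizer_iff.2 fun _ hu => s₁.W_comm hu hz⟩
  have hw₁Q : w₁ ∈ Q₁ := ⟨s₁.W_le s₁.w_mem, mem_centralizer_iff.2 fun _ hu =>
    s₁.W_comm hu s₁.w_mem⟩
  have hp₁Q : p₁ ∈ Q₁ := hxQ haQ
  have hp₂Q : p₂ ∈ Q₁ := hxQ' haQ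
  set gens : Set G := {w₁, z, w₀, w', w'', a, p₁, p₂} with hgens
  have hgQ : ∀ g ∈ gens, g ∈ Q₁ ∧ g * g = 1 := by
    intro g hg
    simp only [hgens, Set.mem_insert_iff, Set.mem_singleton_iff] at hg
    rcases hg with rfl | rfl | rfl | rfl | rfl | rfl | rfl | rfl
    exacts [⟨hw₁Q, s₁.W_sq s₁.w_mem⟩, ⟨hzQ, s₁.W_sq hz⟩, ⟨hwQ, hw0sq⟩, ⟨hxQ hwQ, hw'sq⟩,
      ⟨hxQ' hwQ, hw''sq⟩, ⟨haQ, hsq⟩, ⟨hp₁Q, hsq' hsq⟩, ⟨hp₂Q, hsq'' hsq⟩]
  have hgcomm : ∀ g ∈ gens, ∀ h ∈ gens, g * h = h * g := by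
    have c1 : ∀ q ∈ Q₁, w₁ * q = q * w₁ := fun q hq => mem_centralizer_iff.1 hq.2 w₁ s₁.w_mem
    have c2 : ∀ q ∈ Q₁, z * q = q * z := fun q hq => mem_centralizer_iff.1 hq.2 z hz
    have c3 : ∀ q ∈ Q₁, w₀ * q = q * w₀ := fun q hq => (mul_inv_eq_iff_eq_mul.1 (hw₀T q hq.1)).symm
    have c4 : ∀ q ∈ Q₁, w' * q = q * w' := fun q hq => (mul_inv_eq_iff_eq_mul.1 (hw'Q q hq)).symm
    have c5 : ∀ q ∈ Q₁, w'' * q = q * w'' := fun q hq =>
      (mul_inv_eq_iff_eq_mul.1 (hw''Q q hq)).symm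
    intro g hg h hh
    have hgq := (hgQ g hg).1
    have hhq := (hgQ h hh).1
    simp only [hgens, Set.mem_insert_iff, Set.mem_singleton_iff] at hg hh
    rcases hg with rfl | rfl | rfl | rfl | rfl | rfl | rfl | rfl
    · exact c1 _ hhq
    · exact c2 _ hhq
    · exact c3 _ hhq
    · exact c4 _ hhq
    · exact c5 _ hhq
    all_goals rcases hh with rfl | rfl | rfl | rfl | rfl | rfl | rfl | rfl
    all_goals first
      | rfl
      | exact (c1 _ hgq).symm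
      | exact (c2 _ hgq).symm
      | exact (c3 _ hgq).symm
      | exact (c4 _ hgq).symm
      | exact (c5 _ hgq).symm
      | exact hap₁
      | exact hap₁.symm
      | exact hp₂a
      | exact hp₂a.symm
      | exact hp₁₂
      | exact hp₁₂.symm
  set U := closure gens with hUdef
  have hgm : ∀ g ∈ gens, g ∈ U := fun g hg => subset_closure hg
  have hUQ : U ≤ Q₁ := (closure_le _).2 fun g hg => (hgQ g hg).1
  have hUc : IsMulCommutative U := isMulCommutative_closure hgcomm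
  have hUcomm : ∀ u ∈ U, ∀ v ∈ U, u * v = v * u := fun u hu v hv =>
    congrArg Subtype.val (hUc.is_comm.comm ⟨u, hu⟩ ⟨v, hv⟩)
  have hUsq : ∀ u ∈ U, u * u = 1 := by
    intro u hu
    induction hu using closure_induction with
    | mem g hg => exact (hgQ g hg).2
    | one => exact one_mul _
    | mul g h hg hh ihg ihh =>
      calc g * h * (g * h) = g * (h * g) * h := by group
        _ = g * (g * h) * h := by rw [hUcomm h hh g hg]
        _ = (g * g) * (h * h) := by group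
        _ = 1 := by rw [ihg, ihh, one_mul]
    | inv g _ ihg => rw [← mul_inv_rev, ihg, inv_one]
  have hwU : w₀ ∈ U := hgm _ (by simp [hgens])
  have hw'U : w' ∈ U := hgm _ (by simp [hgens])
  have hw''U : w'' ∈ U := hgm _ (by simp [hgens])
  have hw₁U : w₁ ∈ U := hgm _ (by simp [hgens])
  have hzU : z ∈ U := hgm _ (by simp [hgens])
  have haU : a ∈ U := hgm _ (by simp [hgens])
  have hp₁U : p₁ ∈ U := hgm _ (by simp [hgens])
  have hp₂U : p₂ ∈ U := hgm _ (by simp [hgens])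
  -- elements outside `Q₁` swap `p₁` and `p₂`
  have hswap : ∀ t ∈ T, t ∉ Q₁ → t * w' * t⁻¹ = w'' ∧ t * w'' * t⁻¹ = w' ∧
      (t * p₁ * t⁻¹ = p₂ ∨ t * p₁ * t⁻¹ = p₂ * w'') ∧
      (t * p₂ * t⁻¹ = p₁ ∨ t * p₂ * t⁻¹ = p₁ * w') := by
    intro t ht htQ
    set r := t * x * t⁻¹ * x with hr
    have hrQ : r ∈ Q₁ := s₁.core_le_Q (s₁.inverts ht htQ)
    have e1 : ∀ u : G, t * (x * u * x⁻¹) * t⁻¹ = r * (x⁻¹ * (t * u * t⁻¹) * x) * r⁻¹ := fun u => by
      rw [hr]; group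
    have e2 : ∀ u : G, t * (x⁻¹ * u * x) * t⁻¹ = x * r⁻¹ * (t * u * t⁻¹) * r * x⁻¹ := fun u => by
      rw [hr]; group
    have hr' : r⁻¹ ∈ T := T.inv_mem hrQ.1
    have hfix : ∀ u ∈ wOf K₀, r⁻¹ * u * r = u ∨ r⁻¹ * u * r = u * w₀ := fun u hu => by
      simpa using s₀.conj_W hr' hu
    have hwr : r⁻¹ * w₀ * r = w₀ := by simpa using hw₀T r⁻¹ hr'
    refine ⟨?_, ?_, ?_, ?_⟩
    · rw [hw', e1, hw₀T t ht, ← hw'', hw''Q r hrQ]
    · rw [hw'', e2, hw₀T t ht, show x * r⁻¹ * w₀ * r * x⁻¹ = x * (r⁻¹ * w₀ * r) * x⁻¹ by group, hwr]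
    · rw [hp₁, e1]
      rcases s₀.conj_W ht ha with h | h
      · rw [h, ← hp₂]; exact hact₂ r hrQ
      · rw [h, show x⁻¹ * (a * w₀) * x = p₂ * w'' by rw [hp₂, hw'']; group]
        rcases hact₂ r hrQ with h' | h'
        · right
          calc r * (p₂ * w'') * r⁻¹ = (r * p₂ * r⁻¹) * (r * w'' * r⁻¹) := by group
            _ = p₂ * w'' := by rw [h', hw''Q r hrQ]
        · left
          calc r * (p₂ * w'') * r⁻¹ = (r * p₂ * r⁻¹) * (r * w'' * r⁻¹) := by group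
            _ = p₂ := by rw [h', hw''Q r hrQ, mul_assoc, hw''sq, mul_one]
    · rw [hp₂, e2, show x * r⁻¹ * (t * a * t⁻¹) * r * x⁻¹ = x * (r⁻¹ * (t * a * t⁻¹) * r) * x⁻¹ by
        group]
      rcases hfix _ (conj_mem s₀.le_norm_W ht ha) with h | h <;> rw [h] <;>
        rcases s₀.conj_W ht ha with h' | h' <;> rw [h']
      · exact Or.inl rfl
      · right; rw [hp₁, hw']; group
      · right; rw [hp₁, hw']; group
      · left
        rw [mul_assoc a w₀ w₀, hw0sq, mul_one]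
  have hTU : T ≤ normalizer (U : Set G) := by
    refine le_normalizer_of_conj_mem fun t ht u hu => ?_
    have : U ≤ U.comap (MulAut.conj t).toMonoidHom := by
      refine (closure_le _).2 fun g hg => ?_
      show t * g * t⁻¹ ∈ U
      have hor : ∀ {u v : G}, u ∈ U → v ∈ U → (t * g * t⁻¹ = u ∨ t * g * t⁻¹ = u * v) →
          t * g * t⁻¹ ∈ U := fun hu hv h => h.elim (fun e => e ▸ hu) (fun e => e ▸ U.mul_mem hu hv)
      simp only [hgens, Set.mem_insert_iff, Set.mem_singleton_iff] at hg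
      rcases hg with rfl | rfl | rfl | rfl | rfl | rfl | rfl | rfl
      · rw [mul_inv_eq_iff_eq_mul.2 (mem_centralizer_iff.1 s₁.w_central t ht)]; exact hw₁U
      · exact hor hzU hw₁U (s₁.conj_W ht hz)
      · rw [hw₀T t ht]; exact hwU
      · by_cases htQ : t ∈ Q₁
        · rw [hw'Q t htQ]; exact hw'U
        · rw [(hswap t ht htQ).1]; exact hw''U
      · by_cases htQ : t ∈ Q₁
        · rw [hw''Q t htQ]; exact hw''U
        · rw [(hswap t ht htQ).2.1]; exact hw'U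
      · exact hor haU hwU (s₀.conj_W ht ha)
      · by_cases htQ : t ∈ Q₁
        · exact hor hp₁U hw'U (hact₁ t htQ)
        · exact hor hp₂U hw''U (hswap t ht htQ).2.2.1
      · by_cases htQ : t ∈ Q₁
        · exact hor hp₂U hw''U (hact₂ t htQ)
        · exact hor hp₁U hw'U (hswap t ht htQ).2.2.2
    exact this hu
  -- an offender
  obtain ⟨A, hA, a₁, ha₁A, ha₁Q⟩ : ∃ A ∈ Thompson.maxIn 2 T, ∃ a₁ ∈ A, a₁ ∉ Q₁ := by
    obtain ⟨g, hg, hgQ'⟩ := s₁.exists_J_not_mem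
    by_contra hcon
    push Not at hcon
    refine hgQ' ?_
    rw [Thompson.thompsonSubgroupOf_eq_sSup] at hg
    exact (sSup_le fun A hA b hb => hcon A hA b hb) hg
  have ha₁T : a₁ ∈ T := hA.2.1 ha₁A
  have hcommA : ∀ b ∈ A, ∀ c ∈ A, b * c = c * b := fun b hb c hc =>
    congrArg Subtype.val (hA.1.1.is_comm.comm ⟨b, hb⟩ ⟨c, hc⟩)
  set D := A ⊓ centralizer (U : Set G) with hD
  set F := A ⊓ U with hF
  have hineq : Nat.card D * Nat.card U ≤ Nat.card A * Nat.card F := by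
    have hUel : IsElementaryAbelian 2 U := ⟨hUc, fun u hu => by rw [sq]; exact hUsq u hu⟩
    have hDel : IsElementaryAbelian 2 D := ⟨⟨⟨fun u v => Subtype.ext (hcommA u u.2.1 v v.2.1)⟩⟩,
      fun u hu => hA.1.2 u hu.1⟩
    calc Nat.card D * Nat.card U ≤ Nat.card ↥(D ⊔ U) * Nat.card ↥(D ⊓ U) := card_mul_card_le D U
      _ ≤ Nat.card A * Nat.card F := Nat.mul_le_mul
          (hA.2.2 _ (ElemAbelian.sup hDel hUel inf_le_right)
            (sup_le (inf_le_left.trans hA.2.1) (hUQ.trans inf_le_left)))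
          (card_le_of_le (inf_le_inf_right _ inf_le_left))
  set B := A ⊓ Q₁ with hB
  have hA2 : Nat.card A ≤ 2 * Nat.card B := card_le_two_mul inf_le_left fun s hs t ht hs' ht' =>
    ⟨A.mul_mem hs ht, s₁.mul_mem_Q (hA.2.1 hs) (hA.2.1 ht) (fun h => hs' ⟨hs, h⟩)
      (fun h => ht' ⟨ht, h⟩)⟩
  set q₁₂ := a₁ * p₁ * a₁⁻¹ * p₁ with hq₁₂
  have hmove₂ : ∀ b ∈ Q₁, b * a₁ = a₁ * b → b * p₁ * b⁻¹ = p₁ * w' →
      b * (a₁ * p₁ * a₁⁻¹) * b⁻¹ = a₁ * p₁ * a₁⁻¹ * w'' := fun b hb hba e => by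
    calc b * (a₁ * p₁ * a₁⁻¹) * b⁻¹ = (b * a₁) * p₁ * (b * a₁)⁻¹ := by group
      _ = a₁ * (b * p₁ * b⁻¹) * a₁⁻¹ := by rw [hba]; group
      _ = a₁ * p₁ * a₁⁻¹ * (a₁ * w' * a₁⁻¹) := by rw [e]; group
      _ = _ := by rw [(hswap a₁ ha₁T ha₁Q).1]
  -- `D` is the common centraliser of `a`, `p₁` in `B`
  have hDB : (B ⊓ centralizer ({a} : Set G)) ⊓ centralizer ({p₁} : Set G) ≤ D := by
    rintro b ⟨⟨⟨hbA, hbQ⟩, hba⟩, hbp⟩
    refine ⟨hbA, ?_⟩
    have hba' := mem_centralizer_singleton_iff.1 hba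
    have hbp' := mem_centralizer_singleton_iff.1 hbp
    have hbp₂ : b * p₂ = p₂ * b := by
      have e : b * (a₁ * p₁ * a₁⁻¹) * b⁻¹ = a₁ * p₁ * a₁⁻¹ := by
        calc b * (a₁ * p₁ * a₁⁻¹) * b⁻¹ = (b * a₁) * p₁ * (b * a₁)⁻¹ := by group
          _ = a₁ * (b * p₁ * b⁻¹) * a₁⁻¹ := by rw [hcommA b hbA a₁ ha₁A]; group
          _ = _ := by rw [hbp', mul_inv_cancel_right]
      refine mul_inv_eq_iff_eq_mul.1 ?_
      rcases (hswap a₁ ha₁T ha₁Q).2.2.1 with h | h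
      · rwa [h] at e
      · rw [h] at e
        calc b * p₂ * b⁻¹ = (b * (p₂ * w'') * b⁻¹) * (b * w'' * b⁻¹)⁻¹ := by group
          _ = p₂ := by rw [e, hw''Q b hbQ, mul_inv_cancel_right]
    show b ∈ centralizer (U : Set G)
    rw [hUdef, centralizer_closure, mem_centralizer_iff]
    intro g hg
    simp only [hgens, Set.mem_insert_iff, Set.mem_singleton_iff] at hg
    rcases hg with rfl | rfl | rfl | rfl | rfl | rfl | rfl | rfl
    · exact mem_centralizer_iff.1 hbQ.2 _ s₁.w_mem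
    · exact mem_centralizer_iff.1 hbQ.2 _ hz
    · exact (mul_inv_eq_iff_eq_mul.1 (hw₀T b hbQ.1)).symm
    · exact (mul_inv_eq_iff_eq_mul.1 (hw'Q b hbQ)).symm
    · exact (mul_inv_eq_iff_eq_mul.1 (hw''Q b hbQ)).symm
    · exact hba'.symm
    · exact hbp'.symm
    · exact hbp₂.symm
  have hBa : Nat.card B ≤ 2 * Nat.card ↥(B ⊓ centralizer ({a} : Set G)) :=
    card_le_two_mul inf_le_left fun s hs t ht hs' ht' => ⟨B.mul_mem hs ht, by
      have key : ∀ s ∈ B, s ∉ B ⊓ centralizer ({a} : Set G) → s * a * s⁻¹ = a * w₀ := fun s hs h =>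
        (hact s hs.2).resolve_left fun e =>
          h ⟨hs, mem_centralizer_singleton_iff.2 (mul_inv_eq_iff_eq_mul.1 e)⟩
      refine mem_centralizer_singleton_iff.2 (mul_inv_eq_iff_eq_mul.1 ?_)
      calc s * t * a * (s * t)⁻¹ = s * (t * a * t⁻¹) * s⁻¹ := by group
        _ = (s * a * s⁻¹) * (s * w₀ * s⁻¹) := by rw [key t ht ht']; group
        _ = a := by rw [key s hs hs', hw₀T s hs.2.1, mul_assoc, hw0sq, mul_one]⟩
  have hBp : Nat.card ↥(B ⊓ centralizer ({a} : Set G)) ≤ 2 * Nat.card D := by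
    refine (card_le_two_mul inf_le_left fun s hs t ht hs' ht' =>
      ⟨mul_mem hs ht, ?_⟩).trans (Nat.mul_le_mul_left 2 (card_le_of_le hDB))
    have key : ∀ s ∈ B ⊓ centralizer ({a} : Set G),
        s ∉ (B ⊓ centralizer ({a} : Set G)) ⊓ centralizer ({p₁} : Set G) →
        s * p₁ * s⁻¹ = p₁ * w' := fun s hs h => (hact₁ s hs.1.2).resolve_left fun e =>
      h ⟨hs, mem_centralizer_singleton_iff.2 (mul_inv_eq_iff_eq_mul.1 e)⟩
    refine mem_centralizer_singleton_iff.2 (mul_inv_eq_iff_eq_mul.1 ?_)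
    calc s * t * p₁ * (s * t)⁻¹ = s * (t * p₁ * t⁻¹) * s⁻¹ := by group
      _ = (s * p₁ * s⁻¹) * (s * w' * s⁻¹) := by rw [key t ht ht']; group
      _ = p₁ := by rw [key s hs hs', hw'Q s hs.1.2, mul_assoc, hw'sq, mul_one]
  -- the elements of `U` moved into a subgroup
  let mv : (g : G) → Subgroup G → Subgroup G := fun g X =>
    { carrier := {u | u ∈ U ∧ g ∈ normalizer (U : Set G) ⊓ T ∧ g * u * g⁻¹ * u ∈ X} ∪ {1}
      one_mem' := Or.inr rfl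
      mul_mem' := by
        rintro u v (⟨hu, hg, hu'⟩ | rfl) hv
        · rcases hv with ⟨hv, -, hv'⟩ | rfl
          · refine Or.inl ⟨U.mul_mem hu hv, hg, ?_⟩
            have hc := hUcomm (g * v * g⁻¹) (conj_mem le_rfl hg.1 hv) u hu
            have e : g * (u * v) * g⁻¹ * (u * v) = (g * u * g⁻¹ * u) * (g * v * g⁻¹ * v) := by
              calc g * (u * v) * g⁻¹ * (u * v) = (g * u * g⁻¹) * ((g * v * g⁻¹) * u) * v := by group
                _ = _ := by rw [hc]; group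
            rw [e]; exact X.mul_mem hu' hv'
          · rw [mul_one]; exact Or.inl ⟨hu, hg, hu'⟩
        · rw [one_mul]; exact hv
      inv_mem' := by
        rintro u (⟨hu, hg, hu'⟩ | rfl)
        · rw [inv_eq_of_mul_eq_one_left (hUsq u hu)]; exact Or.inl ⟨hu, hg, hu'⟩
        · rw [inv_one]; exact Or.inr rfl }
  have hmem : ∀ {g : G} {X : Subgroup G} {u : G}, g ∈ T → u ∈ U → g * u * g⁻¹ * u ∈ X →
      u ∈ mv g X := fun hg hu h => Or.inl ⟨hu, ⟨hTU hg, hg⟩, h⟩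
  have hnmem : ∀ {g : G} {X : Subgroup G} {u : G}, u ≠ 1 → g * u * g⁻¹ * u ∉ X → u ∉ mv g X :=
    fun hu h h' => h'.elim (fun h'' => h h''.2.2) (fun h'' => hu h'')
  have hFmv : ∀ g ∈ A, ∀ X : Subgroup G, F ≤ mv g X := fun g hg X v hv => hmem (hA.2.1 hg) hv.2
    (by rw [hcommA g hg v hv.1, mul_inv_cancel_right, hUsq v hv.2]; exact one_mem _)
  have hane : a ≠ 1 := ha1
  have hp₁ne : p₁ ≠ 1 := fun e => ha1 (conj_eq_one_iff.1 e)
  -- the last two drops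
  have hlast : (∀ q ∈ Q₁, q ∈ Q₀) ∨ ∀ H : Subgroup G, H ≤ U → z ∈ H → p₁ ∈ H → F ≤ H →
      4 * Nat.card F ≤ Nat.card H := by
    by_cases hI : q₁₂ ∈ zpowers w₁
    · refine Or.inl fun q hq => ?_
      have hqfix : ∀ q ∈ Q₁, q * p₁ * q⁻¹ = p₁ := by
        intro q hq
        refine (hact₁ q hq).resolve_right fun e => ?_
        have hc : q * q₁₂ * q⁻¹ = q₁₂ := by
          obtain ⟨i, hi⟩ := hI
          rw [← hi]
          exact mul_inv_eq_iff_eq_mul.2 (((show Commute q w₁ from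
            (mem_centralizer_iff.1 hq.2 w₁ s₁.w_mem).symm)).zpow_right i).eq
        have hp₂' : a₁ * p₁ * a₁⁻¹ = q₁₂ * p₁ := by
          rw [hq₁₂, mul_assoc (a₁ * p₁ * a₁⁻¹) p₁ p₁, (hgQ p₁ (by simp [hgens])).2, mul_one]
        have h1 : q * (a₁ * p₁ * a₁⁻¹) * q⁻¹ = a₁ * p₁ * a₁⁻¹ * w' := by
          calc q * (a₁ * p₁ * a₁⁻¹) * q⁻¹ = (q * q₁₂ * q⁻¹) * (q * p₁ * q⁻¹) := by
                rw [hp₂']; group
            _ = _ := by rw [hc, e, hp₂']; group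
        have h2 : q * (a₁ * p₁ * a₁⁻¹) * q⁻¹ = a₁ * p₁ * a₁⁻¹ ∨
            q * (a₁ * p₁ * a₁⁻¹) * q⁻¹ = a₁ * p₁ * a₁⁻¹ * w'' := by
          rcases (hswap a₁ ha₁T ha₁Q).2.2.1 with h | h <;> rw [h]
          · exact hact₂ q hq
          · rcases hact₂ q hq with h' | h'
            · left
              calc q * (p₂ * w'') * q⁻¹ = (q * p₂ * q⁻¹) * (q * w'' * q⁻¹) := by group
                _ = _ := by rw [h', hw''Q q hq]
            · right
              calc q * (p₂ * w'') * q⁻¹ = (q * p₂ * q⁻¹) * (q * w'' * q⁻¹) := by group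
                _ = _ := by rw [h', hw''Q q hq]
        rcases h2 with h2 | h2
        · exact hw'ne (mul_eq_left.1 (h1.symm.trans h2))
        · exact hne12 (mul_left_cancel (h1.symm.trans h2))
      refine (s₀.mem_Q_iff ha ha1 haw hq.1).2 ?_
      have h := hqfix _ (hxQ hq)
      calc q * a * q⁻¹ = x⁻¹ * ((x * q * x⁻¹) * p₁ * (x * q * x⁻¹)⁻¹) * x := by rw [hp₁]; group
        _ = a := by rw [h, hp₁]; group
    · refine Or.inr fun H hHU hzH hp₁H hFH => ?_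
      set H₁ := H ⊓ mv a₁ (zpowers w₁) with hH₁
      have hza : a₁ * z * a₁⁻¹ = z * w₁ := (s₁.conj_W ha₁T hz).resolve_left fun e =>
        ha₁Q ((s₁.mem_Q_iff hz hz1 hzw ha₁T).2 e)
      have hzw' : a₁ * z * a₁⁻¹ * z = w₁ := by
        rw [hza, mul_assoc, s₁.W_comm s₁.w_mem hz, ← mul_assoc, s₁.W_sq hz, one_mul]
      have hz₁ : z ∈ H₁ := ⟨hzH, hmem ha₁T hzU (hzw' ▸ mem_zpowers w₁)⟩
      have d1 : 2 * Nat.card H₁ ≤ Nat.card H :=
        two_mul_card_le inf_le_left hp₁H fun h => hnmem hp₁ne hI h.2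
      have d2 : 2 * Nat.card ↥(H₁ ⊓ mv a₁ ⊥) ≤ Nat.card H₁ :=
        two_mul_card_le inf_le_left hz₁ fun h => hnmem hz1 (fun h' => s₁.w_ne (by
          rw [← hzw']; exact mem_bot.1 h')) h.2
      have d3 : Nat.card F ≤ Nat.card ↥(H₁ ⊓ mv a₁ ⊥) := card_le_of_le
        (le_inf (le_inf hFH (hFmv a₁ ha₁A _)) (hFmv a₁ ha₁A _))
      omega
  rcases hlast with hle | hlast
  · refine le_antisymm hle fun t ht => ?_
    by_contra htQ
    obtain ⟨s, hs, hsQ⟩ := s₀.exists_J_not_mem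
    have hsT := Thompson.thompsonSubgroupOf_le 2 T hs
    have h1 : t * s ∈ Q₀ := hle _ (s₁.mul_mem_Q ht.1 hsT htQ fun h => hsQ (hle s h))
    exact hsQ (by
      have := Q₀.mul_mem (Q₀.inv_mem ht) h1
      rwa [inv_mul_cancel_left] at this)
  exfalso
  have hD0 : 0 < Nat.card D := Nat.card_pos
  have hF0 : 0 < Nat.card F := Nat.card_pos
  have hfin : ∀ m n : ℕ, Nat.card A ≤ m * Nat.card D → n * Nat.card F ≤ Nat.card U → m < n →
      False := by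
    intro m n hm hn hmn
    have h1 : Nat.card D * (n * Nat.card F) ≤ m * Nat.card D * Nat.card F :=
      (Nat.mul_le_mul_left _ hn).trans (hineq.trans (Nat.mul_le_mul_right _ hm))
    have h2 : n * (Nat.card D * Nat.card F) ≤ m * (Nat.card D * Nat.card F) := by
      calc n * (Nat.card D * Nat.card F) = Nat.card D * (n * Nat.card F) := by ring
        _ ≤ _ := h1
        _ = _ := by ring
    exact absurd (Nat.le_of_mul_le_mul_right h2 (Nat.mul_pos hD0 hF0)) (by omega)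
  have hzfix : ∀ b ∈ Q₁, b * z * b⁻¹ * z = 1 := fun b hb => by
    rw [← mem_centralizer_iff.1 hb.2 z hz, mul_inv_cancel_right, s₁.W_sq hz]
  have hq₁₂U : q₁₂ ∈ U := U.mul_mem (conj_mem hTU ha₁T hp₁U) hp₁U
  have hp₁' : ∀ b ∈ Q₁, b * p₁ * b⁻¹ * p₁ ∈ zpowers w' := fun b hb => by
    rcases hact₁ b hb with h | h <;> rw [h]
    · rw [(hgQ p₁ (by simp [hgens])).2]; exact one_mem _
    · rw [mul_assoc, hUcomm w' hw'U p₁ hp₁U, ← mul_assoc, (hgQ p₁ (by simp [hgens])).2, one_mul]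
      exact mem_zpowers _
  -- moving `q₁₂`
  have hq₁₂move : ∀ b ∈ B, b * p₁ * b⁻¹ = p₁ * w' → b * q₁₂ * b⁻¹ * q₁₂ ∉ zpowers w' := by
    intro b hb e h
    have h1 : b * q₁₂ * b⁻¹ = q₁₂ * (w'' * w') := by
      calc b * q₁₂ * b⁻¹ = (b * (a₁ * p₁ * a₁⁻¹) * b⁻¹) * (b * p₁ * b⁻¹) := by rw [hq₁₂]; group
        _ = (a₁ * p₁ * a₁⁻¹) * (w'' * p₁) * w' := by
            rw [hmove₂ b hb.2 (hcommA b hb.1 a₁ ha₁A) e, e]; group
        _ = _ := by rw [hUcomm w'' hw''U p₁ hp₁U, hq₁₂]; group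
    rw [h1, mul_assoc, hUcomm (w'' * w') (U.mul_mem hw''U hw'U) q₁₂ hq₁₂U, ← mul_assoc,
      hUsq q₁₂ hq₁₂U, one_mul] at h
    rcases eq_one_or_eq_of_mem_zpowers hw'sq h with h' | h'
    · exact hne12 (by
        rw [← inv_eq_of_mul_eq_one_left hw'sq]; exact (eq_inv_of_mul_eq_one_left h').symm)
    · exact hw''ne (mul_eq_right.1 h')
  have hamove : ∀ b ∈ B, b * a * b⁻¹ = a * w₀ → b * a * b⁻¹ * a ∉ zpowers w' := by
    intro b hb e h
    rw [e, mul_assoc, s₀.W_comm s₀.w_mem ha, ← mul_assoc, hsq, one_mul] at h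
    rcases eq_one_or_eq_of_mem_zpowers hw'sq h with h' | h'
    · exact s₀.w_ne h'
    · exact hmove h'.symm
  by_cases hP1 : ∃ b ∈ B, b * a * b⁻¹ = a ∧ b * p₁ * b⁻¹ = p₁ * w'
  · obtain ⟨b₁, hb₁, hb₁a, hb₁p⟩ := hP1
    have hb₁T : b₁ ∈ T := hA.2.1 hb₁.1
    by_cases hP0 : ∃ b ∈ B, b * a * b⁻¹ = a * w₀
    · obtain ⟨b₀, hb₀, hb₀a, hb₀p⟩ : ∃ b ∈ B, b * a * b⁻¹ = a * w₀ ∧ b * p₁ * b⁻¹ = p₁ := by
        obtain ⟨b, hb, hba⟩ := hP0
        rcases hact₁ b hb.2 with h | h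
        · exact ⟨b, hb, hba, h⟩
        · refine ⟨b * b₁, B.mul_mem hb hb₁, ?_, ?_⟩
          · calc b * b₁ * a * (b * b₁)⁻¹ = b * (b₁ * a * b₁⁻¹) * b⁻¹ := by group
              _ = a * w₀ := by rw [hb₁a, hba]
          · calc b * b₁ * p₁ * (b * b₁)⁻¹ = b * (b₁ * p₁ * b₁⁻¹) * b⁻¹ := by group
              _ = (b * p₁ * b⁻¹) * (b * w' * b⁻¹) := by rw [hb₁p]; group
              _ = p₁ := by rw [h, hw'Q b hb.2, mul_assoc, hw'sq, mul_one]
      set H₁ := U ⊓ mv b₀ ⊥ with hH₁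
      set H₂ := H₁ ⊓ mv b₁ (zpowers w') with hH₂
      have hb₀T : b₀ ∈ T := hA.2.1 hb₀.1
      have hp : p₁ ∈ H₁ := ⟨hp₁U, hmem hb₀T hp₁U (mem_bot.2 (by
        rw [hb₀p, (hgQ p₁ (by simp [hgens])).2]))⟩
      have hqm : q₁₂ ∈ H₁ := ⟨hq₁₂U, hmem hb₀T hq₁₂U (mem_bot.2 (by
        have e : b₀ * q₁₂ * b₀⁻¹ = q₁₂ := by
          calc b₀ * q₁₂ * b₀⁻¹ = (b₀ * a₁) * p₁ * (b₀ * a₁)⁻¹ * (b₀ * p₁ * b₀⁻¹) := by
                rw [hq₁₂]; group
            _ = a₁ * (b₀ * p₁ * b₀⁻¹) * a₁⁻¹ * p₁ := by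
                rw [hcommA b₀ hb₀.1 a₁ ha₁A, hb₀p]
                calc a₁ * b₀ * p₁ * (a₁ * b₀)⁻¹ * p₁ = a₁ * (b₀ * p₁ * b₀⁻¹) * a₁⁻¹ * p₁ := by group
                  _ = _ := by rw [hb₀p]
            _ = q₁₂ := by rw [hb₀p]
        rw [e, hUsq q₁₂ hq₁₂U]))⟩
      have d1 : 2 * Nat.card H₁ ≤ Nat.card U := two_mul_card_le inf_le_left haU fun h =>
        hnmem ha1 (fun h' => hamove b₀ hb₀ hb₀a (by rw [mem_bot.1 h']; exact one_mem _)) h.2
      have d2 : 2 * Nat.card H₂ ≤ Nat.card H₁ := two_mul_card_le inf_le_left hqm fun h =>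
        hnmem (fun e => hq₁₂move b₁ hb₁ hb₁p (by rw [e]; simp))
          (hq₁₂move b₁ hb₁ hb₁p) h.2
      have d3 := hlast H₂ (inf_le_left.trans inf_le_left)
        ⟨⟨hzU, hmem hb₀T hzU (mem_bot.2 (hzfix b₀ hb₀.2))⟩,
          hmem hb₁T hzU (by rw [hzfix b₁ hb₁.2]; exact one_mem _)⟩
        ⟨hp, hmem hb₁T hp₁U (hp₁' b₁ hb₁.2)⟩
        (le_inf (le_inf inf_le_right (hFmv b₀ hb₀.1 _)) (hFmv b₁ hb₁.1 _))
      exact hfin 8 16 (by omega) (by omega) (by norm_num)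
    · push Not at hP0
      have hBeq : B ≤ B ⊓ centralizer ({a} : Set G) := fun b hb => ⟨hb,
        mem_centralizer_singleton_iff.2 (mul_inv_eq_iff_eq_mul.1
          ((hact b hb.2).resolve_right (hP0 b hb)))⟩
      have := card_le_of_le hBeq
      set H₁ := U ⊓ mv b₁ (zpowers w') with hH₁
      have d1 : 2 * Nat.card H₁ ≤ Nat.card U := two_mul_card_le inf_le_left hq₁₂U fun h =>
        hnmem (fun e => hq₁₂move b₁ hb₁ hb₁p (by rw [e]; simp))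
          (hq₁₂move b₁ hb₁ hb₁p) h.2
      have d3 := hlast H₁ inf_le_left
        ⟨hzU, hmem hb₁T hzU (by rw [hzfix b₁ hb₁.2]; exact one_mem _)⟩
        ⟨hp₁U, hmem hb₁T hp₁U (hp₁' b₁ hb₁.2)⟩
        (le_inf inf_le_right (hFmv b₁ hb₁.1 _))
      exact hfin 4 8 (by omega) (by omega) (by norm_num)
  · push Not at hP1
    have hBD : B ⊓ centralizer ({a} : Set G) ≤ D := fun b hb => hDB ⟨hb,
      mem_centralizer_singleton_iff.2 (mul_inv_eq_iff_eq_mul.1 ((hact₁ b hb.1.2).resolve_right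
        (hP1 b hb.1 (mul_inv_eq_iff_eq_mul.2 (mem_centralizer_singleton_iff.1 hb.2)))))⟩
    have := card_le_of_le hBD
    by_cases hP0 : ∃ b ∈ B, b * a * b⁻¹ = a * w₀
    · obtain ⟨b, hb, hba⟩ := hP0
      set H₁ := U ⊓ mv b (zpowers w') with hH₁
      have d1 : 2 * Nat.card H₁ ≤ Nat.card U := two_mul_card_le inf_le_left haU fun h =>
        hnmem ha1 (hamove b hb hba) h.2
      have hbT : b ∈ T := hA.2.1 hb.1
      have d3 := hlast H₁ inf_le_left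
        ⟨hzU, hmem hbT hzU (by rw [hzfix b hb.2]; exact one_mem _)⟩
        ⟨hp₁U, hmem hbT hp₁U (hp₁' b hb.2)⟩
        (le_inf inf_le_right (hFmv b hb.1 _))
      exact hfin 4 8 (by omega) (by omega) (by norm_num)
    · push Not at hP0
      have hBeq : B ≤ B ⊓ centralizer ({a} : Set G) := fun b hb => ⟨hb,
        mem_centralizer_singleton_iff.2 (mul_inv_eq_iff_eq_mul.1
          ((hact b hb.2).resolve_right (hP0 b hb)))⟩
      have := card_le_of_le hBeq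
      have d3 := hlast U le_rfl hzU hp₁U inf_le_right
      exact hfin 2 4 (by omega) (by omega) (by norm_num)

end Cfsg.Agent.Lib.JComp
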