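import Cfsg.Agent.Lib.JComp.Second
import Cfsg.Agent.Lib.JComp.PairMoved

/-!
# With a second component, `K` is the only component of its maximal 2-local overgroup
-/

set_option autoImplicit false

namespace Cfsg.Agent.Lib.JComp

open Subgroup
open scoped commutatorElement IsMulCommutative

variable {G : Type*} [Group G] [Finite G] {T L L₂ K K₂ Kₐ K_b : Subgroup G} {xa xb x₂ wa wb w₂ : G}

/-- `N(K)` is the unique maximal 2-local overgroup of `K J(T)` and `K` its only component. -/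
structure Good (T K : Subgroup G) : Prop where
  uq : Uq T K (normalizer (K : Set G))
  zc : T ≤ centralizer (omegaCenterOf (thompsonSubgroupOf 2 T) : Set G)
  core : T ⊓ centralizer (wOf K : Set G) = pCoreOf 2 (normalizer (K : Set G))
  only : ∀ K' : Subgroup G, IsJComponent T K' → K' ≤ normalizer (K : Set G) → K' = K
  norm_J : normalizer (K : Set G) ⊓ normalizer (thompsonSubgroupOf 2 T : Set G) ≤
    normalizer (T : Set G)

theorem Good.le_norm (g : Good T K) : T ≤ normalizer (K : Set G) := g.uq.mem.1.1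

theorem Good.exists_side (g : Good T K) : ∃ x w, Side T K x w := g.uq.exists_side g.le_norm

/-- Two components of one overgroup and a third one whose centre is moved. -/
theorem false_of_two (hG : ZNGroup G) (hLT : L ∈ jOvergroups T) (sa : Side T Kₐ xa wa)
    (sb : Side T K_b xb wb) (s₂ : Side T K₂ x₂ w₂) (ha : Kₐ ≤ L) (hb : K_b ≤ L) (hne : K_b ≠ Kₐ)
    (hmove : xa * w₂ * xa⁻¹ ≠ w₂)
    (hdis : ∀ X : Subgroup G, IsPGroup 2 X → T ≤ normalizer (X : Set G) →
      Kₐ ≤ normalizer (X : Set G) → K₂ ≤ normalizer (X : Set G) → X = ⊥) : False := by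
  have hT1 : T ≠ ⊥ := fun e => sa.w_ne (mem_bot.1 (e ▸ sa.W_le sa.w_mem))
  by_cases hcomm : wOf K₂ ≤ centralizer (wOf Kₐ : Set G)
  · have he := eq_of_moved sa s₂ hcomm hmove
    have h0 := hdis _ (sa.isPGroup.to_le inf_le_left) sa.T_le_norm_Q sa.K_le_norm_Q
      (by rw [he]; exact s₂.K_le_norm_Q)
    have hm : wa ∈ T ⊓ centralizer (wOf Kₐ : Set G) :=
      ⟨sa.W_le sa.w_mem, mem_centralizer_iff.2 fun _ hv => sa.W_comm hv sa.w_mem⟩
    rw [h0] at hm
    exact sa.w_ne (mem_bot.1 hm)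
  have hnc : ¬ wOf Kₐ ≤ centralizer (wOf K₂ : Set G) := fun h => hcomm (le_centralizer_iff.1 h)
  have sm := small sa s₂ hnc hdis
  have hbc : K_b ≤ centralizer (wOf Kₐ : Set G) :=
    le_centralizer_wOf_of_ne hG sa.isPGroup hT1 hLT sa.comp sb.comp ha hb hne
  obtain ⟨v, hv, hv2⟩ := SetLike.not_le_iff_exists.1 hnc
  have hvT := sa.W_le hv
  have hv1 : v ≠ 1 := fun e => hv2 (e ▸ one_mem _)
  have hvw : v ≠ wa := fun e => hv2 (e ▸
    centralizer_le (SetLike.coe_subset_coe.2 s₂.W_le) sa.w_central)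
  obtain ⟨u, hu, hu1, huw⟩ := sb.exists_gen
  have huQ : u ∈ T ⊓ centralizer (wOf Kₐ : Set G) :=
    ⟨sb.W_le hu, hbc (CharP.pCoreOf_le K_b (wOf_le_pCoreOf K_b hu))⟩
  have hu2 : u ∉ T ⊓ centralizer (wOf K₂ : Set G) := by
    intro h
    have hc := sm.central ⟨huQ, h⟩
    obtain ⟨t, ht, htQ⟩ := sb.exists_J_not_mem
    have htT := Thompson.thompsonSubgroupOf_le 2 T ht
    exact htQ ((sb.mem_Q_iff hu hu1 huw htT).2
      (mul_inv_eq_iff_eq_mul.2 (mem_centralizer_iff.1 hc t htT)))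
  have huv : u * v ∈ centralizer (T : Set G) := sm.central
    ⟨mul_mem huQ ⟨hvT, mem_centralizer_iff.2 fun _ h => sa.W_comm h hv⟩,
      s₂.mul_mem_Q huQ.1 hvT hu2 (fun h => hv2 h.2)⟩
  obtain ⟨t, ht, htQ⟩ := sa.exists_J_not_mem
  have htT := Thompson.thompsonSubgroupOf_le 2 T ht
  have hev : t * v * t⁻¹ = v * wa :=
    (sa.conj_W htT hv).resolve_left fun e => htQ ((sa.mem_Q_iff hv hv1 hvw htT).2 e)
  have heq : t * u * t⁻¹ * (v * wa) = u * v := by
    rw [← hev]
    calc t * u * t⁻¹ * (t * v * t⁻¹) = t * (u * v) * t⁻¹ := by group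
      _ = u * v := mul_inv_eq_iff_eq_mul.2 (mem_centralizer_iff.1 huv t htT)
  rcases sb.conj_W htT hu with e | e <;> rw [e] at heq
  · exact sa.w_ne (mul_eq_left.1 (mul_left_cancel heq))
  · have hcv : Commute v wb := mem_centralizer_iff.1 sb.w_central v hvT
    rw [mul_assoc, ← mul_assoc wb v, ← hcv.eq, mul_assoc v wb] at heq
    have h1 : wb * wa = 1 := mul_eq_left.1 (mul_left_cancel heq)
    have h2 : wb = wa := by
      rw [eq_inv_of_mul_eq_one_left h1, sa.W_inv sa.w_mem]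
    exact hne (eq_of_wOf_meet hG sa.isPGroup hT1 hLT sa.comp sb.comp ha hb sa.w_mem
      (h2 ▸ sb.w_mem) sa.w_ne)

theorem Side.w_mem_omegaJ {x w : G} (s : Side T K x w) :
    w ∈ omegaCenterOf (thompsonSubgroupOf 2 T) :=
  mem_omegaJ_of (s.W_le s.w_mem) (s.W_sq s.w_mem)
    (centralizer_le (SetLike.coe_subset_coe.2 (Thompson.thompsonSubgroupOf_le 2 T)) s.w_central)

/-- `K` is the only component in `L`. -/
theorem Uq.eq_of_component (hG : ZNGroup G) (h : Uq T K L) (h₂ : Uq T K₂ L₂) (hK₂L : ¬ K₂ ≤ L)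
    {K' : Subgroup G} (hK' : IsJComponent T K') (hK'L : K' ≤ L) : K' = K := by
  by_contra hne
  have hT := h.isPGroup
  have hT1 := h.ne_bot
  have hKL₂ : ¬ K ≤ L₂ := fun hle =>
    hK₂L (h₂.le.trans (h.uniq L₂ h₂.maximal.1 (sup_le hle h₂.J_le)))
  have hTK := h.le_norm_of_second hG h₂.comp hK₂L (fun _ hX hle => h₂.overgroup hG hX hle)
  have hTK₂ := h₂.le_norm_of_second hG h.comp hKL₂ (fun _ hX hle => h.overgroup hG hX hle)
  obtain ⟨x, w, s⟩ := h.exists_side hTK
  obtain ⟨x₂, w₂, s₂⟩ := h₂.exists_side hTK₂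
  set Z := omegaCenterOf (thompsonSubgroupOf 2 T) with hZ
  have hD : Nat.card ↥(Z ⊓ centralizer (K : Set G)) ≤ 2 := (h.card_fixed_le h₂.comp hK₂L).1
  have hfix : ∀ {K'' : Subgroup G}, IsJComponent T K'' → K'' ≤ L → K'' ≠ K →
      ∀ {u : G}, u ∈ wOf K'' → u ∈ centralizer (K : Set G) := fun {K''} hc hle hn {u} hu =>
    le_centralizer_iff.1
      (le_centralizer_wOf_of_ne hG hT hT1 h.mem hc h.comp hle h.le hn.symm) hu
  have hTK' : T ≤ normalizer (K' : Set G) := by
    intro t ht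
    have e1 : T.map (MulAut.conj t).toMonoidHom = T :=
      mem_normalizer_iff_map_conj_eq.1 (Subgroup.le_normalizer ht)
    set K₃ := K'.map (MulAut.conj t).toMonoidHom with hK₃
    have hK₃c : IsJComponent T K₃ := by
      have h1 := isJComponent_map (MulAut.conj t) hK'
      rwa [e1] at h1
    have hK₃L : K₃ ≤ L := by
      rintro _ ⟨k, hk, rfl⟩
      exact L.mul_mem (L.mul_mem (h.mem.1.1 ht) (hK'L hk)) (L.inv_mem (h.mem.1.1 ht))
    by_contra htn
    have hne₃ : K₃ ≠ K := fun e => hne (Subgroup.map_injective (MulAut.conj t).injective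
      (e.trans (mem_normalizer_iff_map_conj_eq.1 (hTK ht)).symm))
    obtain ⟨u, hu, huZ, hu1⟩ := exists_center hT hK'
    obtain ⟨u₃, hu₃, hu₃Z, hu₃1⟩ := exists_center hT hK₃c
    have e : u = u₃ := eq_of_card_le_two hD ⟨huZ, hfix hK' hK'L hne hu⟩
      ⟨hu₃Z, hfix hK₃c hK₃L hne₃ hu₃⟩ hu1 hu₃1
    exact htn (mem_normalizer_iff_map_conj_eq.2
      (eq_of_wOf_meet hG hT hT1 h.mem hK' hK₃c hK'L hK₃L hu (e ▸ hu₃) hu1))
  obtain ⟨x', w', s'⟩ := JComp.exists_side hT hK' hTK' ⟨le_sup_right, hT, Odd.of_dvd_nat h.mem.1.2.2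
    ⟨_, (relIndex_mul_relIndex T (K' ⊔ T) L le_sup_right (sup_le hK'L h.mem.1.1)).symm⟩⟩
  by_cases hmove : x * w₂ * x⁻¹ = w₂
  · -- `w₂` spans `C_{Z₀}(K)`, so `K'` moves it
    obtain ⟨c, d, hcd, hcZ, hcK, hd⟩ := omegaCenterOf_J_decomp hT h.comp s₂.w_mem_omegaJ
    have hcK' := Subgroup.centralizer_le (SetLike.coe_subset_coe.2 le_sup_left) hcK
    have hxc : x * c * x⁻¹ = c :=
      mul_inv_eq_iff_eq_mul.2 (mem_centralizer_iff.1 hcK' x s.x_mem)
    have hd1 : d = 1 := s.fpf hd.2 (by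
      have h1 : x * (c * d) * x⁻¹ = c * d := by rw [← hcd]; exact hmove
      rw [show x * (c * d) * x⁻¹ = (x * c * x⁻¹) * (x * d * x⁻¹) by group, hxc] at h1
      exact mul_left_cancel h1)
    have hw₂ : w₂ = w' := eq_of_card_le_two hD
      ⟨s₂.w_mem_omegaJ, by rw [hcd, hd1, mul_one]; exact hcK'⟩
      ⟨s'.w_mem_omegaJ, hfix hK' hK'L hne s'.w_mem⟩ s₂.w_ne s'.w_ne
    have hmove' : x' * w₂ * x'⁻¹ ≠ w₂ := hw₂ ▸ s'.conj_x_not_mem s'.w_mem s'.w_ne
    refine false_of_two hG h.mem s' s s₂ hK'L h.le (Ne.symm hne) hmove' fun X hX hTX hK'X hK₂X => ?_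
    by_contra hX1
    have hNL₂ := h₂.uniq _ (isTwoLocal_normalizer hX hX1)
      (sup_le hK₂X ((Thompson.thompsonSubgroupOf_le 2 T).trans hTX))
    have hne₂ : K' ≠ K₂ := fun e => hK₂L (e ▸ hK'L)
    exact hmove' (mul_inv_eq_iff_eq_mul.2 (mem_centralizer_iff.1
      (le_centralizer_wOf_of_ne hG hT hT1 h₂.mem h₂.comp hK' h₂.le (hK'X.trans hNL₂) hne₂
        s'.x_mem) w₂ s₂.w_mem).symm)
  · refine false_of_two hG h.mem s s' s₂ h.le hK'L hne hmove fun X hX hTX hKX hK₂X => ?_
    by_contra hX1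
    exact hK₂L (hK₂X.trans (h.uniq _ (isTwoLocal_normalizer hX hX1)
      (sup_le hKX ((Thompson.thompsonSubgroupOf_le 2 T).trans hTX))))

theorem good_of_second (hG : ZNGroup G) (h : Uq T K L) (h₂ : Uq T K₂ L₂) (hK₂L : ¬ K₂ ≤ L) :
    L = normalizer (K : Set G) ∧ Good T K := by
  have hT := h.isPGroup
  have hTK := h.le_norm_of_second hG h₂.comp hK₂L (fun _ hX hle => h₂.overgroup hG hX hle)
  have hzc := h.le_centralizer_omegaJ h₂.comp hK₂L hTK
  have hNJ := h.inf_normalizer_J_le hG hzc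
  obtain ⟨x, w, s⟩ := h.exists_side hTK
  have honly : ∀ K' : Subgroup G, IsJComponent T K' → K' ≤ L → K' = K :=
    fun _ hK' hle => h.eq_of_component hG h₂ hK₂L hK' hle
  have hLN : L ≤ normalizer (K : Set G) := by
    refine le_of_components_le hG hT h.ne_bot h.mem (fun n hn => ?_) fun K' hK' hle => ?_
    · refine mem_normalizer_iff_map_conj_eq.2 (honly _ ?_ ?_)
      · refine isJComponent_congr ?_ (isJComponent_map (MulAut.conj n) h.comp)
        rw [thompsonSubgroupOf_map_equiv]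
        exact mem_normalizer_iff_map_conj_eq.1 hn.2
      · rintro _ ⟨k, hk, rfl⟩
        exact L.mul_mem (L.mul_mem hn.1 (h.le hk)) (L.inv_mem hn.1)
    · rw [honly K' hK' hle]; exact Subgroup.le_normalizer
  have hNK : normalizer (K : Set G) ≤ L := by
    refine (normalizer_le_normalizer_pCoreOf 2 K).trans (h.uniq _
      (isTwoLocal_normalizer (CharP.pCoreOf_isPGroup K) fun e => wOf_ne_bot h.comp
        (eq_bot_iff.2 (e ▸ wOf_le_pCoreOf K))) ?_)
    exact sup_le (CharP.le_normalizer_pCoreOf K)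
      ((le_normalizer h.comp).trans (normalizer_le_normalizer_pCoreOf 2 K))
  have hL : L = normalizer (K : Set G) := le_antisymm hLN hNK
  have hLW : L ≤ normalizer (wOf K : Set G) := le_normalizer_wOf hLN
  have hcore : T ⊓ centralizer (wOf K : Set G) = pCoreOf 2 L := by
    refine le_antisymm (CharP.le_pCoreOf (inf_le_left.trans h.mem.1.1) (hT.to_le inf_le_left) ?_) ?_
    · refine le_of_components_le hG hT h.ne_bot h.mem (fun n hn => ?_) fun K' hK' hle => ?_
      · exact Coprime.le_normalizer_inf_centralizer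
          (L := normalizer (T : Set G) ⊓ normalizer (wOf K : Set G)) inf_le_left inf_le_right
          ⟨hNJ hn, hLW hn.1⟩
      · rw [honly K' hK' hle]; exact s.K_le_norm_Q
    · intro g hg
      have hgT := pCoreOf_le_sylowTwoIn h.mem.1 hg
      by_contra hgQ
      have hr : g * x * g⁻¹ * x ∈ pCoreOf 2 L := by
        refine CharP.le_pCoreOf (L := L) ((CharP.pCoreOf_le K).trans h.le)
          (CharP.pCoreOf_isPGroup K) (hLN.trans (normalizer_le_normalizer_pCoreOf 2 K))
          (s.inverts hgT hgQ)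
      have hxn : x ∈ normalizer (pCoreOf 2 L : Set G) :=
        CharP.le_normalizer_pCoreOf L (h.le s.x_mem)
      have he : g * (x * g⁻¹ * x⁻¹) ∈ pCoreOf 2 L :=
        mul_mem hg (conj_mem le_rfl hxn (inv_mem hg))
      have hxx : x * x ∈ pCoreOf 2 L := by
        have := mul_mem (inv_mem he) hr
        rwa [show (g * (x * g⁻¹ * x⁻¹))⁻¹ * (g * x * g⁻¹ * x) = x * x by group] at this
      have hx : x ∈ pCoreOf 2 L := by
        have := mul_mem hxx hxx
        rwa [show x * x * (x * x) = x * (x * (x * x)) by group, ← pow_three, s.x_pow,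
          mul_one] at this
      exact s.x_not (CharP.eq_one_of_mem_of_coprime (CharP.pCoreOf_isPGroup L) hx
        (Nat.coprime_two_right.2 s.odd) ▸ one_mem _)
  exact ⟨hL, ⟨hL ▸ h, hzc, hL ▸ hcore, fun K' h1 h2 => honly K' h1 (hL ▸ h2), hL ▸ hNJ⟩⟩

theorem Good.map (f : G ≃* G) (g : Good T K) : Good (T.map f.toMonoidHom) (K.map f.toMonoidHom) := by
  have hN : (normalizer (K : Set G)).map f.toMonoidHom =
      normalizer ((K.map f.toMonoidHom : Subgroup G) : Set G) :=
    map_normalizer_eq_of_bijective K f.bijective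
  refine ⟨hN ▸ g.uq.map f, ?_, ?_, fun K' hK' hle => ?_, ?_⟩
  · rw [thompsonSubgroupOf_map_equiv, omegaCenterOf_map, ← map_centralizer_equiv]
    exact map_mono g.zc
  · rw [wOf_map, ← map_centralizer_equiv, ← Subgroup.map_inf _ _ _ f.injective, g.core, ← hN,
      pCoreOf_map]
  · rw [← hN] at hle
    have h1 := isJComponent_map f.symm hK'
    rw [map_symm_map] at h1
    have h2 := g.only _ h1 ((map_mono hle).trans (map_symm_map f _).le)
    rw [← h2, map_map_symm]
  · rw [← hN, thompsonSubgroupOf_map_equiv,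
      show normalizer ((T.map f.toMonoidHom : Subgroup G) : Set G) =
        (normalizer (T : Set G)).map f.toMonoidHom from
        (map_normalizer_eq_of_bijective T f.bijective).symm,
      show normalizer (((thompsonSubgroupOf 2 T).map f.toMonoidHom : Subgroup G) : Set G) =
        (normalizer (thompsonSubgroupOf 2 T : Set G)).map f.toMonoidHom from
        (map_normalizer_eq_of_bijective _ f.bijective).symm,
      ← Subgroup.map_inf _ _ _ f.injective]
    exact map_mono g.norm_J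

theorem Good.change (g : Good T K) {l : G} (hl : l ∈ normalizer (K : Set G)) :
    Good (T.map (MulAut.conj l).toMonoidHom) K := by
  have h1 := g.map (MulAut.conj l)
  have e : K.map (MulAut.conj l).toMonoidHom = K := mem_normalizer_iff_map_conj_eq.1 hl
  rwa [e] at h1

theorem Good.dis (ga : Good T Kₐ) (gb : Good T K_b) (hne : K_b ≠ Kₐ) :
    ∀ X : Subgroup G, IsPGroup 2 X → T ≤ normalizer (X : Set G) →
      Kₐ ≤ normalizer (X : Set G) → K_b ≤ normalizer (X : Set G) → X = ⊥ := by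
  intro X hX hTX haX hbX
  by_contra hX1
  exact hne (ga.only _ gb.uq.comp (hbX.trans (ga.uq.uniq _ (isTwoLocal_normalizer hX hX1)
    (sup_le haX ((Thompson.thompsonSubgroupOf_le 2 T).trans hTX)))))

/-- If the four-groups of two components at `T` commute, each fixes the other one's centre. -/
theorem Good.fix_center (ga : Good T Kₐ) (gb : Good T K_b) (hne : K_b ≠ Kₐ)
    (sa : Side T Kₐ xa wa) (sb : Side T K_b xb wb)
    (hcomm : wOf K_b ≤ centralizer (wOf Kₐ : Set G)) : xa * wb * xa⁻¹ = wb := by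
  by_contra hmove
  have he := eq_of_moved sa sb hcomm hmove
  have h0 := ga.dis gb hne _ (sa.isPGroup.to_le inf_le_left) sa.T_le_norm_Q sa.K_le_norm_Q
    (by rw [he]; exact sb.K_le_norm_Q)
  have hm : wa ∈ T ⊓ centralizer (wOf Kₐ : Set G) :=
    ⟨sa.W_le sa.w_mem, mem_centralizer_iff.2 fun _ hv => sa.W_comm hv sa.w_mem⟩
  rw [h0] at hm
  exact sa.w_ne (mem_bot.1 hm)

end Cfsg.Agent.Lib.JComp
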