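import Cfsg.Agent.Lib.JComp.Pair

/-!
# Commuting four-groups with a centre centralised by the other component
-/

set_option autoImplicit false

namespace Cfsg.Agent.Lib.JComp

open Subgroup
open scoped commutatorElement IsMulCommutative

variable {G : Type*} [Group G] [Finite G] {T K₀ K₁ : Subgroup G} {x y w₀ w₁ : G}

theorem commute_conj_iff {g u v : G} : Commute (g * u * g⁻¹) (g * v * g⁻¹) ↔ Commute u v :=
  ⟨fun h => by simpa [mul_assoc] using h.map (MulAut.conj g⁻¹).toMonoidHom,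
    fun h => h.map (MulAut.conj g).toMonoidHom⟩

theorem commute_iff_conj_eq {u v : G} : Commute u v ↔ u * v * u⁻¹ = v :=
  ⟨fun h => mul_inv_eq_iff_eq_mul.2 h.eq, fun h => mul_inv_eq_iff_eq_mul.1 h⟩

theorem sq_conj {g u : G} (h : u * u = 1) : (g * u * g⁻¹) * (g * u * g⁻¹) = 1 := by
  calc g * u * g⁻¹ * (g * u * g⁻¹) = g * (u * u) * g⁻¹ := by group
    _ = 1 := by rw [h, mul_one, mul_inv_cancel]

set_option maxHeartbeats 1000000 in
/-- If `x` fixes `w₀`, no element of `T ∩ C(W₁)` acting like `W₀` has a conjugate under `x` not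
commuting with `W₀`. -/
theorem false_of_central (s₁ : Side T K₁ x w₁) (s₀ : Side T K₀ y w₀)
    (hcomm : wOf K₀ ≤ centralizer (wOf K₁ : Set G)) (hfix : x * w₀ * x⁻¹ = w₀)
    {a : G} (ha : a ∈ wOf K₀) (ha1 : a ≠ 1) (haw : a ≠ w₀)
    {c : G} (hc : c ∈ T ⊓ centralizer (wOf K₁ : Set G)) (hc2 : c * c = 1) (hac : Commute a c)
    (hcT : ∀ t ∈ T, t * c * t⁻¹ = c ∨ t * c * t⁻¹ = c * w₀)
    (hne : ¬ Commute a (x * c * x⁻¹)) : False := by
  set Q₁ := T ⊓ centralizer (wOf K₁ : Set G) with hQ₁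
  set Q₀ := T ⊓ centralizer (wOf K₀ : Set G) with hQ₀
  obtain ⟨b, hb, hb1, hbw⟩ := s₁.exists_gen
  have hxQ : ∀ {q}, q ∈ Q₁ → x * q * x⁻¹ ∈ Q₁ := fun hq => conj_mem le_rfl s₁.x_norm_Q hq
  have hxQ' : ∀ {q}, q ∈ Q₁ → x⁻¹ * q * x ∈ Q₁ := fun hq => by
    have := conj_mem le_rfl (inv_mem s₁.x_norm_Q) hq
    rwa [inv_inv] at this
  have hyQ : ∀ {q}, q ∈ Q₀ → y * q * y⁻¹ ∈ Q₀ := fun hq => conj_mem le_rfl s₀.x_norm_Q hq
  have hyQ' : ∀ {q}, q ∈ Q₀ → y⁻¹ * q * y ∈ Q₀ := fun hq => by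
    have := conj_mem le_rfl (inv_mem s₀.x_norm_Q) hq
    rwa [inv_inv] at this
  have hxx : x * x = x⁻¹ :=
    (inv_eq_of_mul_eq_one_right (by rw [← pow_three]; exact s₁.x_pow)).symm
  have hyy : y * y = y⁻¹ :=
    (inv_eq_of_mul_eq_one_right (by rw [← pow_three]; exact s₀.x_pow)).symm
  have hfix' : x⁻¹ * w₀ * x = w₀ := by
    conv_lhs => rw [← hfix]
    group
  have hw₀T : ∀ t ∈ T, t * w₀ * t⁻¹ = w₀ := fun t ht =>
    mul_inv_eq_iff_eq_mul.2 (mem_centralizer_iff.1 s₀.w_central t ht)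
  have hw₁T : ∀ t ∈ T, t * w₁ * t⁻¹ = w₁ := fun t ht =>
    mul_inv_eq_iff_eq_mul.2 (mem_centralizer_iff.1 s₁.w_central t ht)
  have hasq : a * a = 1 := s₀.W_sq ha
  have hw0sq : w₀ * w₀ = 1 := s₀.W_sq s₀.w_mem
  have haQ : a ∈ Q₁ := ⟨s₀.W_le ha, hcomm ha⟩
  have hbQ : b ∈ Q₀ := ⟨s₁.W_le hb, le_centralizer_iff.1 hcomm hb⟩
  -- elements acting like `W₀`
  set P : G → Prop := fun u => u ∈ Q₁ ∧ ∀ q ∈ Q₁, q * u * q⁻¹ = u ∨ q * u * q⁻¹ = u * w₀ with hPdef
  have hPa : P a := ⟨haQ, fun q hq => s₀.conj_W hq.1 ha⟩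
  have hPc : P c := ⟨hc, fun q hq => hcT q hq.1⟩
  have hPx : ∀ {u}, P u → P (x * u * x⁻¹) := fun {u} hu => ⟨hxQ hu.1, fun q hq => by
    have e : q * (x * u * x⁻¹) * q⁻¹ = x * ((x⁻¹ * q * x) * u * (x⁻¹ * q * x)⁻¹) * x⁻¹ := by group
    rcases hu.2 _ (hxQ' hq) with h | h
    · exact Or.inl (by rw [e, h])
    · refine Or.inr ?_
      rw [e, h, show x * (u * w₀) * x⁻¹ = x * u * x⁻¹ * (x * w₀ * x⁻¹) by group, hfix]⟩
  have hPx' : ∀ {u}, P u → P (x⁻¹ * u * x) := fun {u} hu => by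
    have h := hPx (hPx hu)
    rwa [show x * (x * u * x⁻¹) * x⁻¹ = (x * x) * u * (x * x)⁻¹ by group, hxx, inv_inv] at h
  set a' := x * c * x⁻¹ with ha'
  have hPa' : P a' := hPx hPc
  have ha'sq : a' * a' = 1 := sq_conj hc2
  have ha'inv : a'⁻¹ = a' := inv_eq_of_mul_eq_one_left ha'sq
  have ha'T : a' ∈ T := hPa'.1.1
  have ha'Q₀ : a' ∉ Q₀ := fun h => hne
    (commute_iff_conj_eq.2 ((s₀.mem_Q_iff ha ha1 haw ha'T).1 h)).symm
  have ha'b : a' * b * a'⁻¹ = b := (s₁.mem_Q_iff hb hb1 hbw ha'T).1 hPa'.1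
  have ha'act : ∀ q ∈ Q₁, a' * q * a'⁻¹ = q ∨ a' * q * a'⁻¹ = w₀ * q := by
    intro q hq
    rcases hPa'.2 q hq with h | h
    · left; rw [← mul_inv_eq_iff_eq_mul.1 h, mul_inv_cancel_right]
    · right
      rw [ha'inv]
      calc a' * q * a' = a' * (q * a' * q⁻¹) * q := by group
        _ = w₀ * q := by rw [h, ← mul_assoc, ha'sq, one_mul]
  by_cases hI : Commute b (y * b * y⁻¹)
  · -- `C_{Q₀}(W₁)` is invariant under `y`
    set b' := y * b * y⁻¹ with hb'
    set b'' := y⁻¹ * b * y with hb''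
    set w₁'' := y⁻¹ * w₁ * y with hw₁''
    have hb'T : b' ∈ T := (hyQ hbQ).1
    have hb'Q : b' ∈ Q₁ := (s₁.mem_Q_iff hb hb1 hbw hb'T).2 (commute_iff_conj_eq.1 hI.symm)
    set r := a' * y * a'⁻¹ * y with hr
    have hrQ : r ∈ Q₀ := s₀.core_le_Q (s₀.inverts ha'T ha'Q₀)
    have hw₁''Q : ∀ q ∈ Q₀, q * w₁'' * q⁻¹ = w₁'' := fun q hq => by
      calc q * w₁'' * q⁻¹ = y⁻¹ * ((y * q * y⁻¹) * w₁ * (y * q * y⁻¹)⁻¹) * y := by
            rw [hw₁'']; group
        _ = _ := by rw [hw₁T _ (hyQ hq).1]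
    have hw₁''sq : w₁'' * w₁'' = 1 := by
      simpa [hw₁''] using sq_conj (g := y⁻¹) (s₁.W_sq s₁.w_mem)
    have e1 : a' * b' * a'⁻¹ = r * b'' * r⁻¹ := by
      calc a' * b' * a'⁻¹ = r * y⁻¹ * (a' * b * a'⁻¹) * y * r⁻¹ := by rw [hb', hr]; group
        _ = _ := by rw [ha'b, hb'']; group
    have e2 : r * b'' * r⁻¹ = b'' ∨ r * b'' * r⁻¹ = b'' * w₁'' := by
      have e : r * b'' * r⁻¹ = y⁻¹ * ((y * r * y⁻¹) * b * (y * r * y⁻¹)⁻¹) * y := by
        rw [hb'']; group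
      rcases s₁.conj_W (hyQ hrQ).1 hb with h | h
      · exact Or.inl (by rw [e, h])
      · exact Or.inr (by rw [e, h, hb'', hw₁'']; group)
    have key : ∀ q ∈ Q₀, Commute q b' → Commute q b'' := by
      intro q hq hqb
      have hcw : Commute q w₁'' := commute_iff_conj_eq.2 (hw₁''Q q hq)
      have hcw0 : Commute q w₀ := commute_iff_conj_eq.2 (hw₀T q hq.1)
      have hrb : Commute q (r * b'' * r⁻¹) := by
        rw [← e1]
        rcases ha'act b' hb'Q with h | h <;> rw [h]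
        exacts [hqb, hcw0.mul_right hqb]
      rcases e2 with h | h <;> rw [h] at hrb
      · exact hrb
      · have := hrb.mul_right hcw
        rwa [mul_assoc, hw₁''sq, mul_one] at this
    set X := Q₀ ⊓ Q₁ with hX
    have hXmem : ∀ {q}, q ∈ Q₀ → (q ∈ X ↔ Commute q b) := fun {q} hq =>
      ⟨fun h => commute_iff_conj_eq.2 ((s₁.mem_Q_iff hb hb1 hbw hq.1).1 h.2),
        fun h => ⟨hq, (s₁.mem_Q_iff hb hb1 hbw hq.1).2 (commute_iff_conj_eq.1 h)⟩⟩
    have hyX : y ∈ normalizer (X : Set G) := by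
      refine mem_normalizer_of_map_le ?_
      rintro _ ⟨q, hq, rfl⟩
      show y * q * y⁻¹ ∈ X
      rw [hXmem (hyQ hq.1)]
      have h1 : Commute (y * q * y⁻¹) b' := commute_conj_iff.2 ((hXmem hq.1).1 hq)
      have h2 := key _ (hyQ hq.1) h1
      rw [← commute_conj_iff (g := y⁻¹)] at h2
      rw [show y⁻¹ * (y * q * y⁻¹) * y⁻¹⁻¹ = q by group,
        show y⁻¹ * b'' * y⁻¹⁻¹ = (y⁻¹ * y⁻¹) * b * (y⁻¹ * y⁻¹)⁻¹ by
          rw [hb'']; simp [mul_assoc],
        show y⁻¹ * y⁻¹ = y by rw [← mul_inv_rev, hyy, inv_inv]] at h2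
      have h3 := key q hq.1 h2
      rw [← commute_conj_iff (g := y)] at h3
      rwa [show y * b'' * y⁻¹ = b by rw [hb'']; group] at h3
    have hTX : T ≤ normalizer (X : Set G) :=
      (le_inf s₀.T_le_norm_Q s₁.T_le_norm_Q).trans inf_normalizer_le_normalizer_inf
    have hWX : wOf K₀ ≤ X := le_inf
      (le_inf s₀.W_le fun _ hu => mem_centralizer_iff.2 fun _ hv => s₀.W_comm hv hu)
      (le_inf s₀.W_le hcomm)
    have hRX : pCoreOf 2 K₀ ≤ X := by
      set R := pCoreOf 2 K₀ with hR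
      set H := (R ⊓ X) ⊔ zpowers y with hH
      have hRH : R ≤ normalizer (H : Set G) := by
        intro g hg
        refine mem_normalizer_of_map_le ?_
        rw [hH, Subgroup.map_sup]
        refine sup_le ?_ ?_
        · rintro _ ⟨e, he, rfl⟩
          exact mem_sup_left ⟨R.mul_mem (R.mul_mem hg he.1) (R.inv_mem hg),
            conj_mem hTX (s₀.core_le hg) he.2⟩
        · rw [MonoidHom.map_zpowers, zpowers_le]
          show g * y * g⁻¹ ∈ H
          have he : g * (y * g⁻¹ * y⁻¹) ∈ R ⊓ X := by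
            have h1 : y * g⁻¹ * y⁻¹ ∈ R :=
              conj_mem (CharP.le_normalizer_pCoreOf K₀) s₀.x_mem (R.inv_mem hg)
            refine ⟨R.mul_mem hg h1, ?_⟩
            by_cases hgX : g ∈ X
            · exact X.mul_mem hgX (conj_mem le_rfl hyX (X.inv_mem hgX))
            have hgQ := s₀.core_le_Q hg
            have h1Q := s₀.core_le_Q h1
            refine ⟨Q₀.mul_mem hgQ h1Q, s₁.mul_mem_Q hgQ.1 h1Q.1 (fun h => hgX ⟨hgQ, h⟩) fun h => ?_⟩
            have h2 : y * g⁻¹ * y⁻¹ ∈ X := ⟨h1Q, h⟩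
            have h3 := conj_mem le_rfl (inv_mem hyX) h2
            rw [show y⁻¹ * (y * g⁻¹ * y⁻¹) * y⁻¹⁻¹ = g⁻¹ by group] at h3
            exact hgX (inv_mem_iff.1 h3)
          have := mul_mem (mem_sup_left (T := zpowers y) he) (mem_sup_right (mem_zpowers y))
          rwa [show g * (y * g⁻¹ * y⁻¹) * y = g * y * g⁻¹ by group] at this
      have hKH : K₀ ≤ H := by
        conv_lhs => rw [← s₀.comp.1]
        refine (closure_le _).2 fun g hg => mem_of_odd_sup (CharP.pCoreOf_isPGroup K₀) hRH ?_ hg.2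
        have h1 : K₀ ≤ H ⊔ R := by
          rw [← eq_sup_zpowers s₀.comp s₀.x_mem s₀.x_not]
          exact sup_le le_sup_right (le_sup_right.trans le_sup_left)
        exact h1 hg.1
      intro g hg
      have hgH := hKH (CharP.pCoreOf_le K₀ hg)
      have hyn : zpowers y ≤ normalizer ((R ⊓ X : Subgroup G) : Set G) := zpowers_le.2
        (inf_normalizer_le_normalizer_inf ⟨CharP.le_normalizer_pCoreOf K₀ s₀.x_mem, hyX⟩)
      rw [hH, ← SetLike.mem_coe, coe_mul_of_right_le_normalizer_left _ _ hyn] at hgH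
      obtain ⟨e, he, yi, hyi, rfl⟩ := hgH
      have h1 : yi ∈ R := by
        have := R.mul_mem (R.inv_mem he.1) hg
        rwa [inv_mul_cancel_left] at this
      have h2 : yi = 1 := CharP.eq_one_of_mem_of_coprime (CharP.pCoreOf_isPGroup K₀) h1
        (Nat.coprime_two_right.2 (Odd.of_dvd_nat s₀.odd (orderOf_dvd_of_mem_zpowers hyi)))
      show e * yi ∈ X
      rw [h2, mul_one]
      exact he.2
    have hdec := s₀.decomp inf_le_left hWX hyX hRX ha'T ha'Q₀ (hTX ha'T)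
      (fun q hq => ha'act q hq.2)
    have hWcent : ∀ u ∈ wOf K₀, ∀ q ∈ X, Commute u q := fun u hu q hq =>
      mem_centralizer_iff.1 hq.1.2 u hu
    -- involutions
    have claim1 : ∀ q ∈ Q₁, q * q = 1 → Commute q a ∨ Commute q a' := by
      intro q hq hqq
      by_contra hcon
      push Not at hcon
      have hqQ : q ∉ Q₀ := fun h =>
        hcon.1 (commute_iff_conj_eq.2 ((s₀.mem_Q_iff ha ha1 haw hq.1).1 h))
      obtain ⟨u, hu, c₀, hc₀, hyc, hvc, hqe⟩ := hdec (q * a')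
        ⟨s₀.mul_mem_Q hq.1 ha'T hqQ ha'Q₀, Q₁.mul_mem hq hPa'.1⟩
      have hcc : Commute a' c₀ := commute_iff_conj_eq.2 hvc
      have hua : a' * u * a'⁻¹ = u * w₀ := (s₀.conj_W ha'T hu).resolve_left fun e => by
        refine hcon.2 ?_
        have h1 : Commute a' (q * a') := by
          rw [hqe]; exact (commute_iff_conj_eq.2 e).mul_right hcc
        have h2 := h1.mul_right (Commute.refl a')
        rwa [mul_assoc, ha'sq, mul_one, Commute.symm_iff] at h2
      have hq' : q = u * c₀ * a' := by rw [← hqe, mul_assoc, ha'sq, mul_one]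
      have h1 : q * q = w₀ * (c₀ * c₀) := by
        calc q * q = u * c₀ * (a' * u * a'⁻¹) * (a' * c₀ * a') := by
              rw [hq']; group
          _ = u * c₀ * (u * w₀) * c₀ := by
              rw [hua, hcc.eq, mul_assoc c₀ a' a', ha'sq, mul_one]
          _ = u * (c₀ * u) * w₀ * c₀ := by group
          _ = (u * u) * (c₀ * w₀) * c₀ := by rw [← (hWcent u hu c₀ hc₀).eq]; group
          _ = w₀ * (c₀ * c₀) := by
              rw [s₀.W_sq hu, one_mul, ← (hWcent w₀ s₀.w_mem c₀ hc₀).eq, mul_assoc]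
      rw [hqq] at h1
      have h2 : c₀ * c₀ = w₀ := by
        rw [← inv_eq_of_mul_eq_one_left hw0sq]; exact (inv_eq_of_mul_eq_one_right h1.symm).symm
      refine s₀.w_ne (s₀.fpf s₀.w_mem ?_)
      rw [← h2]
      calc y * (c₀ * c₀) * y⁻¹ = (y * c₀ * y⁻¹) * (y * c₀ * y⁻¹) := by group
        _ = c₀ * c₀ := by rw [hyc]
    have claim2 : ∀ q, P q → Commute q a → Commute q a' → ∀ g ∈ Q₁, Commute g q := by
      intro q hq hqa hqa' g hg
      have hqX : q ∈ X := ⟨(s₀.mem_Q_iff ha ha1 haw hq.1.1).2 (commute_iff_conj_eq.1 hqa), hq.1⟩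
      obtain ⟨u, hu, c₀, hc₀, hyc, hvc, rfl⟩ := hdec q hqX
      have hcc : Commute a' c₀ := commute_iff_conj_eq.2 hvc
      have hua : Commute a' u := by
        have h1 := hqa'.symm.mul_right hcc.inv_right
        rwa [mul_inv_cancel_right] at h1
      have hu' : u = 1 ∨ u = w₀ := by
        by_contra h
        push Not at h
        exact ha'Q₀ ((s₀.mem_Q_iff hu h.1 h.2 ha'T).2 (commute_iff_conj_eq.1 hua))
      have hucent : ∀ t ∈ T, Commute t u := fun t ht => by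
        rcases hu' with e | e <;> rw [e]
        · exact Commute.one_right t
        · exact commute_iff_conj_eq.2 (hw₀T t ht)
      refine (hucent g hg.1).mul_right ?_
      -- `g` centralises `c₀`
      by_contra hgc
      have hgc' : g * c₀ * g⁻¹ = c₀ * w₀ := by
        rcases hq.2 g hg with h | h
        · refine absurd ?_ hgc
          have := (commute_iff_conj_eq.2 h).mul_right (hucent g hg.1) |>.symm
          have h' : Commute g (u * (u * c₀)) := (hucent g hg.1).mul_right (commute_iff_conj_eq.2 h)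
          rwa [← mul_assoc, s₀.W_sq hu, one_mul] at h'
        · calc g * c₀ * g⁻¹ = (g * u * g⁻¹)⁻¹ * (g * (u * c₀) * g⁻¹) := by group
            _ = _ := by
              rw [commute_iff_conj_eq.1 (hucent g hg.1), h, mul_assoc u, inv_mul_cancel_left]
      obtain ⟨g', hg'X, hg'⟩ : ∃ g' ∈ X, g' * c₀ * g'⁻¹ = c₀ * w₀ := by
        by_cases hgQ : g ∈ Q₀
        · exact ⟨g, ⟨hgQ, hg⟩, hgc'⟩
        refine ⟨g * a', ⟨s₀.mul_mem_Q hg.1 ha'T hgQ ha'Q₀, Q₁.mul_mem hg hPa'.1⟩, ?_⟩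
        calc g * a' * c₀ * (g * a')⁻¹ = g * (a' * c₀ * a'⁻¹) * g⁻¹ := by group
          _ = _ := by rw [hvc, hgc']
      obtain ⟨u', hu1, c', hc', hyc', -, rfl⟩ := hdec g' hg'X
      have h1 : c' * c₀ * c'⁻¹ = c₀ * w₀ := by
        calc c' * c₀ * c'⁻¹ = u'⁻¹ * (u' * c' * c₀ * (u' * c')⁻¹) * u' := by group
          _ = u'⁻¹ * ((c₀ * w₀) * u') := by rw [hg']; group
          _ = _ := by
            rw [← (hWcent u' hu1 _ (X.mul_mem hc₀ (hWX s₀.w_mem))).eq, inv_mul_cancel_left]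
      refine s₀.w_ne (s₀.fpf s₀.w_mem ?_)
      have h2 : w₀ = c₀⁻¹ * (c' * c₀ * c'⁻¹) := by rw [h1, inv_mul_cancel_left]
      rw [h2]
      calc y * (c₀⁻¹ * (c' * c₀ * c'⁻¹)) * y⁻¹ = (y * c₀ * y⁻¹)⁻¹ *
            ((y * c' * y⁻¹) * (y * c₀ * y⁻¹) * (y * c' * y⁻¹)⁻¹) := by group
        _ = _ := by rw [hyc, hyc']
    set p := x * a * x⁻¹ with hp
    have h3 : ¬ Commute p a := fun h => by
      have hpa' : Commute p a' := commute_conj_iff.2 hac
      have hc' := claim2 p (hPx hPa) h hpa'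
      have := hc' (x * a' * x⁻¹) (hxQ hPa'.1)
      exact hne ((commute_conj_iff.1 this).symm)
    have h1 : ¬ Commute a' c := fun h => by
      have h' := claim2 c hPc hac.symm h.symm (x⁻¹ * a * x) (hxQ' haQ)
      rw [← commute_conj_iff (g := x), show x * (x⁻¹ * a * x) * x⁻¹ = a by group, ← ha'] at h'
      exact hne h'
    have hcent : Commute p c → False := fun h => by
      have hca' : a' * c * a'⁻¹ = c * w₀ := (hPc.2 a' hPa'.1).resolve_left fun e =>
        h1 (commute_iff_conj_eq.2 e)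
      have haa' : a' * a * a'⁻¹ = a * w₀ := (hPa.2 a' hPa'.1).resolve_left fun e =>
        hne (commute_iff_conj_eq.2 e).symm
      have hcw : ∀ q ∈ Q₁, q * w₀ * q⁻¹ = w₀ := fun q hq => hw₀T q hq.1
      have hwa : w₀ * a = a * w₀ := s₀.W_comm s₀.w_mem ha
      have hPca : P (c * a) := ⟨Q₁.mul_mem hc haQ, fun q hq => by
        have e : q * (c * a) * q⁻¹ = (q * c * q⁻¹) * (q * a * q⁻¹) := by group
        rcases hPc.2 q hq with h₁ | h₁ <;> rcases hPa.2 q hq with h₂ | h₂ <;> rw [e, h₁, h₂]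
        · exact Or.inl rfl
        · exact Or.inr (by rw [mul_assoc])
        · exact Or.inr (by rw [mul_assoc c w₀, hwa, mul_assoc])
        · refine Or.inl ?_
          rw [mul_assoc c w₀, ← mul_assoc w₀ a, hwa, mul_assoc a w₀, hw0sq, mul_one]⟩
      have hca : Commute (c * a) a' := (commute_iff_conj_eq.2 (by
        calc a' * (c * a) * a'⁻¹ = (a' * c * a'⁻¹) * (a' * a * a'⁻¹) := by group
          _ = c * a := by
            rw [hca', haa', mul_assoc c w₀, ← mul_assoc w₀ a, hwa, mul_assoc a w₀, hw0sq, mul_one]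
        )).symm
      have h' := claim2 (c * a) hPca (hac.symm.mul_left (Commute.refl a)) hca p (hPx hPa).1
      exact h3 (by
        have := h.inv_right.mul_right h'
        rwa [inv_mul_cancel_left] at this)
    set p₂ := x⁻¹ * a * x with hp₂
    rcases claim1 p₂ (hPx' hPa).1 (by simpa using sq_conj (g := x⁻¹) hasq) with h | h
    · rw [← commute_conj_iff (g := x)] at h
      rw [show x * p₂ * x⁻¹ = a by rw [hp₂]; group, ← hp] at h
      exact h3 h.symm
    · refine hcent ?_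
      rw [← commute_conj_iff (g := x * x), hxx] at h
      rw [show x⁻¹ * p₂ * x⁻¹⁻¹ = (x⁻¹ * x⁻¹) * a * (x⁻¹ * x⁻¹)⁻¹ by rw [hp₂]; simp [mul_assoc],
        show x⁻¹ * x⁻¹ = x by rw [← mul_inv_rev, hxx, inv_inv],
        show x⁻¹ * a' * x⁻¹⁻¹ = c by rw [ha']; group] at h
      exact h
  · -- `W₁` does not commute with its conjugate
    set b' := y * b * y⁻¹ with hb'
    have hb'Q : b' ∈ Q₀ := hyQ hbQ
    have hb'Q₁ : b' ∉ Q₁ := fun h => hI
      (commute_iff_conj_eq.2 ((s₁.mem_Q_iff hb hb1 hbw hb'Q.1).1 h)).symm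
    have hb'a : b' * a * b'⁻¹ = a := (s₀.mem_Q_iff ha ha1 haw hb'Q.1).1 hb'Q
    have hb'inv : b'⁻¹ = b' := inv_eq_of_mul_eq_one_left (sq_conj (s₁.W_sq hb))
    -- `y` fixes `w₁`
    have hy₁ : y * w₁ * y⁻¹ = w₁ := by
      have e1 : b' * b * b'⁻¹ = b * w₁ := (s₁.conj_W hb'Q.1 hb).resolve_left fun e =>
        hI (commute_iff_conj_eq.2 e).symm
      have e2 : b * b' * b⁻¹ = b' * (y * w₁ * y⁻¹) := by
        have e : b * b' * b⁻¹ = y * ((y⁻¹ * b * y) * b * (y⁻¹ * b * y)⁻¹) * y⁻¹ := by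
          rw [hb']; group
        rcases s₁.conj_W (hyQ' hbQ).1 hb with h | h
        · exact absurd (commute_iff_conj_eq.2 (show b * b' * b⁻¹ = b' by rw [e, h])) hI
        · rw [e, h, hb']; group
      have h1 : b' * b * b'⁻¹ * b⁻¹ = w₁ := by
        rw [e1, ← s₁.W_comm s₁.w_mem hb, mul_inv_cancel_right]
      have h2 : b' * b * b'⁻¹ * b⁻¹ = y * w₁ * y⁻¹ := by
        have hc1 : Commute b' (y * w₁ * y⁻¹) := commute_conj_iff.2 (s₁.W_comm hb s₁.w_mem)
        rw [show b' * b * b'⁻¹ * b⁻¹ = b' * (b * b' * b⁻¹)⁻¹ by group, e2, mul_inv_rev,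
          inv_eq_of_mul_eq_one_left (sq_conj (g := y) (s₁.W_sq s₁.w_mem)), ← mul_assoc, hc1.eq,
          mul_inv_cancel_right]
      exact h2.symm.trans h1
    have hact : ∀ q ∈ Q₀, q * b' * q⁻¹ = b' ∨ q * b' * q⁻¹ = b' * w₁ := fun q hq => by
      have e : q * b' * q⁻¹ = y * ((y⁻¹ * q * y) * b * (y⁻¹ * q * y)⁻¹) * y⁻¹ := by
        rw [hb']; group
      rcases s₁.conj_W (hyQ' hq).1 hb with h | h
      · exact Or.inl (by rw [e, h])
      · exact Or.inr (by
          rw [e, h, show y * (b * w₁) * y⁻¹ = y * b * y⁻¹ * (y * w₁ * y⁻¹) by group, hy₁, hb'])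
    set p := x * a * x⁻¹ with hp
    set p₂ := x⁻¹ * a * x with hp₂
    set r := b' * x * b'⁻¹ * x with hr
    have hrQ : r ∈ Q₁ := s₁.core_le_Q (s₁.inverts hb'Q.1 hb'Q₁)
    have e3 : b' * p * b'⁻¹ = r * p₂ * r⁻¹ := by
      calc b' * p * b'⁻¹ = r * x⁻¹ * (b' * a * b'⁻¹) * x * r⁻¹ := by rw [hp, hr]; group
        _ = _ := by rw [hb'a, hp₂]; group
    have e4 : r * p₂ * r⁻¹ = p₂ ∨ r * p₂ * r⁻¹ = p₂ * w₀ := (hPx' hPa).2 r hrQ
    by_cases hA : Commute a p
    · have hpQ : p ∈ Q₀ :=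
        (s₀.mem_Q_iff ha ha1 haw (hxQ haQ).1).2 (commute_iff_conj_eq.1 hA.symm)
      have hb'p : b' * p * b'⁻¹ = p ∨ b' * p * b'⁻¹ = w₁ * p := by
        rcases hact p hpQ with h | h
        · left; rw [← mul_inv_eq_iff_eq_mul.1 h, mul_inv_cancel_right]
        · right
          rw [hb'inv]
          calc b' * p * b' = b' * (p * b' * p⁻¹) * p := by group
            _ = w₁ * p := by rw [h, ← mul_assoc b' b', sq_conj (s₁.W_sq hb), one_mul]
      have key : ∀ q ∈ Q₁, Commute q p → Commute q p₂ := by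
        intro q hq hqp
        have hcw0 : Commute q w₀ := commute_iff_conj_eq.2 (hw₀T q hq.1)
        have hcw1 : Commute q w₁ := commute_iff_conj_eq.2 (hw₁T q hq.1)
        have hrb : Commute q (r * p₂ * r⁻¹) := by
          rw [← e3]
          rcases hb'p with h | h <;> rw [h]
          exacts [hqp, hcw1.mul_right hqp]
        rcases e4 with h | h <;> rw [h] at hrb
        · exact hrb
        · have := hrb.mul_right hcw0
          rwa [mul_assoc, hw0sq, mul_one] at this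
      have h1 : Commute a' p₂ := key a' hPa'.1 (commute_conj_iff.2 hac.symm)
      rw [← commute_conj_iff (g := x⁻¹)] at h1
      rw [show x⁻¹ * p₂ * x⁻¹⁻¹ = (x⁻¹ * x⁻¹) * a * (x⁻¹ * x⁻¹)⁻¹ by rw [hp₂]; simp [mul_assoc],
        show x⁻¹ * x⁻¹ = x by rw [← mul_inv_rev, hxx, inv_inv], ← hp] at h1
      have h2 := key _ (conj_mem le_rfl (inv_mem s₁.x_norm_Q) hPa'.1) h1
      rw [← commute_conj_iff (g := x)] at h2
      rw [show x * (x⁻¹ * a' * x⁻¹⁻¹) * x⁻¹ = a' by group,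
        show x * p₂ * x⁻¹ = a by rw [hp₂]; group] at h2
      exact hne h2.symm
    · -- both sides
      have hpinv : p⁻¹ = p := inv_eq_of_mul_eq_one_left (sq_conj hasq)
      have hp₂p : p * p₂ * p⁻¹ = p₂ * w₀ := ((hPx' hPa).2 p (hxQ haQ)).resolve_left fun e => by
        refine hA ?_
        have h := commute_iff_conj_eq.2 e
        rw [← commute_conj_iff (g := x)] at h
        rw [show x * p₂ * x⁻¹ = a by rw [hp₂]; group,
          show x * p * x⁻¹ = (x * x) * a * (x * x)⁻¹ by rw [hp]; group, hxx,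
          ← commute_conj_iff (g := x)] at h
        rw [show x * (x⁻¹ * a * x⁻¹⁻¹) * x⁻¹ = a by group, ← hp] at h
        exact h
      set r' := p * y * p⁻¹ * y with hr'
      have hpQ₀ : p ∉ Q₀ := fun h => hA
        (commute_iff_conj_eq.2 ((s₀.mem_Q_iff ha ha1 haw (hxQ haQ).1).1 h)).symm
      have hr'Q : r' ∈ Q₀ := s₀.core_le_Q (s₀.inverts (hxQ haQ).1 hpQ₀)
      have hpb : p * b * p⁻¹ = b := (s₁.mem_Q_iff hb hb1 hbw (hxQ haQ).1).1 (hxQ haQ)
      set b'' := y⁻¹ * b * y with hb''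
      have e5 : p * b' * p⁻¹ = r' * b'' * r'⁻¹ := by
        calc p * b' * p⁻¹ = r' * y⁻¹ * (p * b * p⁻¹) * y * r'⁻¹ := by rw [hb', hr']; group
          _ = _ := by rw [hpb, hb'']; group
      have hy₁' : y⁻¹ * w₁ * y = w₁ := by
        conv_lhs => rw [← hy₁]
        group
      have hact'' : ∀ q ∈ Q₀, q * b'' * q⁻¹ = b'' ∨ q * b'' * q⁻¹ = b'' * w₁ := fun q hq => by
        have e : q * b'' * q⁻¹ = y⁻¹ * ((y * q * y⁻¹) * b * (y * q * y⁻¹)⁻¹) * y := by
          rw [hb'']; group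
        rcases s₁.conj_W (hyQ hq).1 hb with h | h
        · exact Or.inl (by rw [e, h])
        · exact Or.inr (by
            rw [e, h, show y⁻¹ * (b * w₁) * y = y⁻¹ * b * y * (y⁻¹ * w₁ * y) by group, hy₁', hb''])
      have hb'b'' : b' * b'' * b'⁻¹ = b'' * w₁ := (hact'' b' hb'Q).resolve_left fun e => by
        refine hI ?_
        have h := commute_iff_conj_eq.2 e
        rw [← commute_conj_iff (g := y)] at h
        rw [show y * b'' * y⁻¹ = b by rw [hb'']; group,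
          show y * b' * y⁻¹ = (y * y) * b * (y * y)⁻¹ by rw [hb']; group, hyy,
          ← commute_conj_iff (g := y)] at h
        rw [show y * (y⁻¹ * b * y⁻¹⁻¹) * y⁻¹ = b by group, ← hb'] at h
        exact h
      -- `(b' p)⁴`
      have hsqp : ∀ {v}, v = p₂ ∨ v = p₂ * w₀ → v * (p * v * p⁻¹) = w₀ := by
        intro v hv
        have hp2 : p₂ * p₂ = 1 := by simpa [hp₂] using sq_conj (g := x⁻¹) hasq
        have hcw : w₀ * p₂ = p₂ * w₀ :=
          (commute_iff_conj_eq.2 (hw₀T p₂ (hPx' hPa).1.1)).symm.eq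
        rcases hv with rfl | rfl
        · rw [hp₂p, ← mul_assoc, hp2, one_mul]
        · rw [show p * (p₂ * w₀) * p⁻¹ = (p * p₂ * p⁻¹) * (p * w₀ * p⁻¹) by group, hp₂p,
            hw₀T p (hxQ haQ).1, mul_assoc p₂ w₀, mul_assoc p₂ w₀ w₀, hw0sq, mul_one, hcw,
            ← mul_assoc, hp2, one_mul]
      have t1 : (b' * p * b' * p) * (b' * p * b' * p) = w₀ := by
        have e : b' * p * b' = b' * p * b'⁻¹ := by rw [hb'inv]
        rw [e, e3]
        calc r * p₂ * r⁻¹ * p * (r * p₂ * r⁻¹ * p)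
            = r * p₂ * r⁻¹ * (p * (r * p₂ * r⁻¹) * p) := by group
          _ = r * p₂ * r⁻¹ * (p * (r * p₂ * r⁻¹) * p⁻¹) := by rw [hpinv]
          _ = w₀ := hsqp e4
      have t2 : (p * b' * p * b') * (p * b' * p * b') = w₁ := by
        have e : p * b' * p = p * b' * p⁻¹ := by rw [hpinv]
        rw [e, e5]
        have hb2 : b'' * b'' = 1 := by simpa [hb''] using sq_conj (g := y⁻¹) (s₁.W_sq hb)
        have hcw : w₁ * b'' = b'' * w₁ :=
          (commute_iff_conj_eq.2 (hw₁T b'' (hyQ' hbQ).1)).symm.eq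
        have h' : ∀ {v}, v = b'' ∨ v = b'' * w₁ → v * (b' * v * b'⁻¹) = w₁ := by
          intro v hv
          rcases hv with rfl | rfl
          · rw [hb'b'', ← mul_assoc, hb2, one_mul]
          · rw [show b' * (b'' * w₁) * b'⁻¹ = (b' * b'' * b'⁻¹) * (b' * w₁ * b'⁻¹) by group, hb'b'',
              hw₁T b' hb'Q.1, mul_assoc b'' w₁, mul_assoc b'' w₁ w₁, s₁.W_sq s₁.w_mem, mul_one, hcw,
              ← mul_assoc, hb2, one_mul]
        calc r' * b'' * r'⁻¹ * b' * (r' * b'' * r'⁻¹ * b')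
            = r' * b'' * r'⁻¹ * (b' * (r' * b'' * r'⁻¹) * b') := by group
          _ = r' * b'' * r'⁻¹ * (b' * (r' * b'' * r'⁻¹) * b'⁻¹) := by rw [hb'inv]
          _ = w₁ := h' (hact'' r' hr'Q)
      have h01 : w₁ = w₀ := by
        rw [← t2, ← inv_eq_of_mul_eq_one_left hw0sq, ← t1]
        simp only [mul_inv_rev, hb'inv, hpinv, mul_assoc]
      exact s₁.w_ne (s₁.fpf s₁.w_mem (by rw [h01, hfix]))

end Cfsg.Agent.Lib.JComp
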