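import Cfsg.Agent.Lib.JComp.Good
import Cfsg.Agent.Lib.JComp.PairCentral

/-!
# Two components at `T` with noncommuting four-groups
-/

set_option autoImplicit false

namespace Cfsg.Agent.Lib.JComp

open Subgroup
open scoped commutatorElement IsMulCommutative

variable {G : Type*} [Group G] [Finite G] {T₀ T A B C K K₁ K₂ : Subgroup G}

omit [Finite G] in
theorem conjmap_comp (a b : G) (H : Subgroup G) :
    (H.map (MulAut.conj b).toMonoidHom).map (MulAut.conj a).toMonoidHom =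
      H.map (MulAut.conj (a * b)).toMonoidHom := by
  rw [map_map]
  congr 1
  refine MonoidHom.ext fun z => ?_
  simp [mul_assoc]

omit [Finite G] in
theorem conjmap_one (H : Subgroup G) : H.map (MulAut.conj (1 : G)).toMonoidHom = H := by
  rw [map_one]
  exact map_id H

/-- The components `A ≠ B` share a conjugate of `T₀`. -/
def Adj (T₀ A B : Subgroup G) : Prop :=
  A ≠ B ∧ ∃ g : G, Good (T₀.map (MulAut.conj g).toMonoidHom) A ∧
    Good (T₀.map (MulAut.conj g).toMonoidHom) B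

/-- Walks in the graph of `Adj T₀`. -/
inductive Path (T₀ : Subgroup G) : ℕ → Subgroup G → Subgroup G → Prop
  | refl (A : Subgroup G) : Path T₀ 0 A A
  | tail {n : ℕ} {A B C : Subgroup G} : Path T₀ n A B → Adj T₀ B C → Path T₀ (n + 1) A C

theorem Adj.symm (h : Adj T₀ A B) : Adj T₀ B A := by
  obtain ⟨hne, g, hA, hB⟩ := h
  exact ⟨hne.symm, g, hB, hA⟩

theorem Adj.map (h : Adj T₀ A B) (c : G) :
    Adj T₀ (A.map (MulAut.conj c).toMonoidHom) (B.map (MulAut.conj c).toMonoidHom) := by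
  obtain ⟨hne, g, hA, hB⟩ := h
  refine ⟨fun e => hne (map_injective (MulAut.conj c).injective e), c * g, ?_, ?_⟩
  · rw [← conjmap_comp]; exact hA.map _
  · rw [← conjmap_comp]; exact hB.map _

theorem Path.one (h : Adj T₀ A B) : Path T₀ 1 A B := Path.tail (Path.refl A) h

theorem Path.cons {n : ℕ} (h : Adj T₀ A B) (p : Path T₀ n B C) : Path T₀ (n + 1) A C := by
  induction p with
  | refl D => exact Path.one h
  | tail _ hadj ih => exact Path.tail (ih h) hadj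

theorem Path.symm {n : ℕ} (p : Path T₀ n A B) : Path T₀ n B A := by
  induction p with
  | refl D => exact Path.refl D
  | tail _ hadj ih => exact Path.cons hadj.symm ih

theorem Path.trans {m n : ℕ} (p : Path T₀ m A B) (q : Path T₀ n B C) : Path T₀ (m + n) A C := by
  induction q with
  | refl D => exact p
  | tail _ hadj ih => exact Path.tail (ih p) hadj

theorem Path.map {n : ℕ} (p : Path T₀ n A B) (c : G) :
    Path T₀ n (A.map (MulAut.conj c).toMonoidHom) (B.map (MulAut.conj c).toMonoidHom) := by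
  induction p with
  | refl D => exact Path.refl _
  | tail _ hadj ih => exact Path.tail ih (hadj.map c)

theorem Path.exists_good {n : ℕ} (p : Path T₀ n A B)
    (hA : ∃ g : G, Good (T₀.map (MulAut.conj g).toMonoidHom) A) :
    ∃ g : G, Good (T₀.map (MulAut.conj g).toMonoidHom) B := by
  induction p with
  | refl D => exact hA
  | tail _ hadj _ =>
    obtain ⟨-, g, -, hB⟩ := hadj
    exact ⟨g, hB⟩

theorem Good.wOf_le (g : Good T K) :
    wOf K ≤ T ⊓ centralizer (wOf K : Set G) ∧ wOf K ≤ centralizer (wOf K : Set G) := by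
  obtain ⟨x, w, s⟩ := g.exists_side
  have h : wOf K ≤ centralizer (wOf K : Set G) :=
    fun u hu => mem_centralizer_iff.2 fun v hv => s.W_comm hv hu
  exact ⟨le_inf s.W_le h, h⟩

/-- A four-group lies in the cores along a path on which everything commutes. -/
theorem Path.le_core {n m : ℕ} (p : Path T₀ m A B)
    (hA : ∃ g : G, Good (T₀.map (MulAut.conj g).toMonoidHom) A) (hm : m < n)
    (hmin : ∀ k, k < n → ∀ C, Path T₀ k A C → wOf A ≤ centralizer (wOf C : Set G)) :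
    wOf A ≤ pCoreOf 2 (normalizer (B : Set G)) := by
  induction p with
  | refl D =>
    obtain ⟨g, hg⟩ := hA
    rw [← hg.core]
    exact hg.wOf_le.1
  | @tail k D E F q hadj ih =>
    obtain ⟨hne', g, hE, hF⟩ := hadj
    rw [← hF.core]
    refine le_inf ((ih hA (by omega) hmin).trans ?_) (hmin (k + 1) hm F (q.tail ⟨hne', g, hE, hF⟩))
    rw [← hE.core]; exact inf_le_left

/-- Some pair of components at a finite distance has noncommuting four-groups. -/
theorem exists_noncomm_path (g₁ : Good T₀ K₁) (g₂ : Good T₀ K₂) (hne : K₂ ≠ K₁) :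
    ∃ n : ℕ, ∃ A B, (∃ g : G, Good (T₀.map (MulAut.conj g).toMonoidHom) A) ∧ Path T₀ n A B ∧
      ¬ wOf A ≤ centralizer (wOf B : Set G) := by
  by_contra hcon
  push Not at hcon
  have h12 : Adj T₀ K₁ K₂ := ⟨hne.symm, 1, by rwa [conjmap_one], by rwa [conjmap_one]⟩
  have hK₁ : ∃ g : G, Good (T₀.map (MulAut.conj g).toMonoidHom) K₁ :=
    ⟨1, by rwa [conjmap_one]⟩
  set R : Set (Subgroup G) := {B | ∃ n, Path T₀ n K₁ B} with hR
  set s : Set G := {u | ∃ B ∈ R, u ∈ wOf B} with hs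
  set X := closure s with hX
  have hsc : ∀ u ∈ s, ∀ v ∈ s, u * v = v * u := by
    rintro u ⟨B, ⟨m, hB⟩, hu⟩ v ⟨B', ⟨m', hB'⟩, hv⟩
    exact (mem_centralizer_iff.1
      (hcon (m + m') B B' (hB.exists_good hK₁) (hB.symm.trans hB') hu) v hv).symm
  have hXc : X ≤ centralizer (X : Set G) := by
    rw [hX, centralizer_closure, closure_le]
    exact fun u hu => mem_centralizer_iff.2 fun v hv => (hsc u hu v hv).symm
  have hsq : ∀ u ∈ X, u * u = 1 := by
    intro u hu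
    induction hu using closure_induction with
    | mem v hv =>
      obtain ⟨B, ⟨m, hB⟩, hv⟩ := hv
      obtain ⟨g, hg⟩ := hB.exists_good hK₁
      exact hg.uq.comp.2.2.2.2.2 v hv
    | one => exact one_mul 1
    | mul a b ha hb iha ihb =>
      have hc : b * a = a * b := mem_centralizer_iff.1 (hXc ha) b hb
      rw [mul_assoc, ← mul_assoc b a b, hc, mul_assoc, ihb, mul_one, iha]
    | inv a _ iha => rw [← mul_inv_rev, iha, inv_one]
  have hX2 : IsPGroup 2 X :=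
    fun u => ⟨1, Subtype.ext (by rw [pow_one, sq]; exact hsq u u.2)⟩
  have hinv : ∀ c : G, K₁.map (MulAut.conj c).toMonoidHom ∈ R → c ∈ normalizer (X : Set G) := by
    rintro c ⟨m, hc⟩
    refine mem_normalizer_of_map_le ?_
    rw [hX, MonoidHom.map_closure, closure_le]
    rintro _ ⟨u, ⟨B, ⟨k, hB⟩, hu⟩, rfl⟩
    refine subset_closure ⟨_, ⟨m + k, hc.trans (hB.map c)⟩, ?_⟩
    rw [wOf_map]
    exact ⟨u, hu, rfl⟩
  have hN₁ : normalizer (K₁ : Set G) ≤ normalizer (X : Set G) := fun c hc =>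
    hinv c ⟨0, by
      have e : K₁.map (MulAut.conj c).toMonoidHom = K₁ := mem_normalizer_iff_map_conj_eq.1 hc
      rw [e]; exact Path.refl _⟩
  have hN₂ : normalizer (K₂ : Set G) ≤ normalizer (X : Set G) := fun c hc => by
    have h := h12.map c
    have e : K₂.map (MulAut.conj c).toMonoidHom = K₂ := mem_normalizer_iff_map_conj_eq.1 hc
    rw [e] at h
    exact hinv c ⟨1 + 1, (Path.one h12).trans (Path.one h.symm)⟩
  have hX0 := g₁.dis g₂ hne X hX2 (g₁.le_norm.trans hN₁) (Subgroup.le_normalizer.trans hN₁)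
    (Subgroup.le_normalizer.trans hN₂)
  refine wOf_ne_bot g₁.uq.comp (eq_bot_iff.2 fun u hu => ?_)
  have : u ∈ X := subset_closure ⟨K₁, ⟨0, Path.refl _⟩, hu⟩
  rwa [hX0] at this

/-- The configuration of a shortest noncommuting path of length at least two is impossible. -/
theorem false_of_step {A₀ A₁ An : Subgroup G} {x y a v w₀ w₁ : G} (g₀ : Good T A₀) (g₁ : Good T A₁)
    (s₁ : Side T A₁ x w₁) (s₀ : Side T A₀ y w₀)
    (hcomm : wOf A₀ ≤ centralizer (wOf A₁ : Set G)) (hfix : x * w₀ * x⁻¹ = w₀)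
    (ha : a ∈ wOf A₀) (ha1 : a ≠ 1) (haw : a ≠ w₀)
    (hv : v ∈ wOf An) (hav : ¬ Commute a v)
    (hn : Good (T.map (MulAut.conj x).toMonoidHom) An)
    (hact : ∀ t ∈ T.map (MulAut.conj x).toMonoidHom, t * v * t⁻¹ = v ∨ t * v * t⁻¹ = v * w₀)
    (hn1 : wOf An ≤ centralizer (wOf A₁ : Set G))
    (h03 : ∀ B, Good T B → B ≠ A₀ → wOf A₀ ≤ centralizer (wOf B : Set G)) : False := by
  have hxW : x ∈ normalizer (wOf A₁ : Set G) := s₁.x_norm_W
  set c := x⁻¹ * v * x with hc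
  set A₃ := An.map (MulAut.conj x⁻¹).toMonoidHom with hA₃
  have g₃ : Good T A₃ := by
    have h := hn.map (MulAut.conj x⁻¹)
    rwa [conjmap_comp, inv_mul_cancel, conjmap_one] at h
  have hc₃ : c ∈ wOf A₃ := by
    rw [hA₃, wOf_map]
    exact ⟨v, hv, by simp [hc]⟩
  have hcT : c ∈ T := (g₃.wOf_le.1 hc₃).1
  have hcC : c ∈ centralizer (wOf A₁ : Set G) := by
    have h := conj_mem (CharP.le_normalizer_centralizer le_rfl) (inv_mem hxW) (hn1 hv)
    rwa [inv_inv] at h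
  have hac : Commute a c := by
    by_cases e : A₃ = A₀
    · exact (mem_centralizer_iff.1 (g₀.wOf_le.2 ha) c (e ▸ hc₃)).symm
    · exact (mem_centralizer_iff.1 (h03 A₃ g₃ e ha) c hc₃).symm
  have hc2 : c * c = 1 := g₃.uq.comp.2.2.2.2.2 c hc₃
  refine false_of_central s₁ s₀ hcomm hfix ha ha1 haw ⟨hcT, hcC⟩ hc2 hac (fun t ht => ?_) ?_
  · have hfix' : x⁻¹ * w₀ * x = w₀ := by
      conv_lhs => rw [← hfix]
      group
    have e : t * c * t⁻¹ = x⁻¹ * ((x * t * x⁻¹) * v * (x * t * x⁻¹)⁻¹) * x := by rw [hc]; group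
    rcases hact (x * t * x⁻¹) ⟨t, ht, rfl⟩ with h | h
    · exact Or.inl (by rw [e, h])
    · refine Or.inr ?_
      rw [e, h, show x⁻¹ * (v * w₀) * x = (x⁻¹ * v * x) * (x⁻¹ * w₀ * x) by group, hfix']
  · rwa [hc, show x * (x⁻¹ * v * x) * x⁻¹ = v by group]

/-- Two components at `T₀` with noncommuting four-groups. -/
theorem exists_noncomm (hG : ZNGroup G) (g₁ : Good T₀ K₁) (g₂ : Good T₀ K₂) (hne : K₂ ≠ K₁) :
    ∃ A B : Subgroup G, Good T₀ A ∧ Good T₀ B ∧ ¬ wOf A ≤ centralizer (wOf B : Set G) := by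
  classical
  have hex := exists_noncomm_path g₁ g₂ hne
  obtain ⟨A₀, An, hA₀, p, hnc⟩ := Nat.find_spec hex
  have hmin : ∀ k, k < Nat.find hex → ∀ A B, (∃ g : G, Good (T₀.map (MulAut.conj g).toMonoidHom) A) →
      Path T₀ k A B → wOf A ≤ centralizer (wOf B : Set G) := fun k hk A B hA q => by
    by_contra h
    exact Nat.find_min hex hk ⟨A, B, hA, q, h⟩
  generalize Nat.find hex = n at p hmin
  obtain _ | n := n
  · cases p
    obtain ⟨g, hg⟩ := hA₀
    exact absurd hg.wOf_le.2 hnc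
  cases p with
  | @tail _ _ Am _ q hadj =>
  obtain _ | n := n
  · cases q
    obtain ⟨-, g, hA, hB⟩ := hadj
    have hA' := hA.map (MulAut.conj g⁻¹)
    have hB' := hB.map (MulAut.conj g⁻¹)
    rw [conjmap_comp, inv_mul_cancel, conjmap_one] at hA' hB'
    refine ⟨_, _, hA', hB', fun h => hnc fun u hu => ?_⟩
    rw [wOf_map, wOf_map, ← map_centralizer_equiv] at h
    exact (map_le_map_iff_of_injective (MulAut.conj g⁻¹).injective).1 h hu
  exfalso
  obtain ⟨A₁, h01, q'⟩ : ∃ B, Adj T₀ A₀ B ∧ Path T₀ n B Am := by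
    cases q.symm with
    | @tail _ _ B _ r ha => exact ⟨B, ha.symm, r.symm⟩
  obtain ⟨-, c₁, gA₀, gA₁⟩ := h01
  obtain ⟨hnem, c₂, gAm, gAn⟩ := hadj
  have hne01 : A₀ ≠ A₁ := by
    rintro rfl
    exact hnc (hmin _ (by omega) _ _ hA₀ (q'.tail ⟨hnem, c₂, gAm, gAn⟩))
  set T₁ := T₀.map (MulAut.conj c₁).toMonoidHom with hT₁
  set T₂ := T₀.map (MulAut.conj c₂).toMonoidHom with hT₂
  have hAn : ∃ g : G, Good (T₀.map (MulAut.conj g).toMonoidHom) An := ⟨c₂, gAn⟩
  -- `W₀ ≤ T₂` and `Wₙ ≤ T₁`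
  have hW₀T : wOf A₀ ≤ T₂ := by
    refine ((q.le_core hA₀ (by omega) fun k hk C r => hmin k hk A₀ C hA₀ r) :
      wOf A₀ ≤ pCoreOf 2 (normalizer (Am : Set G))).trans ?_
    rw [← gAm.core]; exact inf_le_left
  have hWnT : wOf An ≤ T₁ := by
    refine (((Path.cons (Adj.symm ⟨hnem, c₂, gAm, gAn⟩) q'.symm).le_core hAn (by omega)
      fun k hk C r => hmin k hk An C hAn r) :
      wOf An ≤ pCoreOf 2 (normalizer (A₁ : Set G))).trans ?_
    rw [← gA₁.core]; exact inf_le_left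
  obtain ⟨y, w₀, s₀⟩ := gA₀.exists_side
  obtain ⟨x, w₁, s₁⟩ := gA₁.exists_side
  obtain ⟨z, wn, sn⟩ := gAn.exists_side
  obtain ⟨a, ha, ha'⟩ := SetLike.not_le_iff_exists.1 hnc
  obtain ⟨v, hv, hav⟩ : ∃ v ∈ wOf An, v * a ≠ a * v := by
    simpa [mem_centralizer_iff] using ha'
  have hw₀T : ∀ t ∈ T₁, t * w₀ * t⁻¹ = w₀ := fun t ht =>
    mul_inv_eq_iff_eq_mul.2 (mem_centralizer_iff.1 s₀.w_central t ht)
  have ha1 : a ≠ 1 := fun e => hav (by rw [e, mul_one, one_mul])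
  have haw : a ≠ w₀ := fun e => hav (by
    rw [e]; exact mem_centralizer_iff.1 s₀.w_central v (hWnT hv))
  -- the centres agree
  have hww : wn = w₀ := by
    have e₁ : v * a * v⁻¹ = a * w₀ := (s₀.conj_W (hWnT hv) ha).resolve_left
      fun e => hav (mul_inv_eq_iff_eq_mul.1 e)
    have e₂ : a * v * a⁻¹ = v * wn := (sn.conj_W (hW₀T ha) hv).resolve_left
      fun e => hav (mul_inv_eq_iff_eq_mul.1 e).symm
    have h1 : w₀ = a⁻¹ * (v * a * v⁻¹) := by rw [e₁, inv_mul_cancel_left]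
    have h2 : a⁻¹ * (v * a * v⁻¹) = a * v * a⁻¹ * v⁻¹ := by
      rw [s₀.W_inv ha, sn.W_inv hv]; group
    rw [e₂, sn.W_comm hv sn.w_mem, mul_inv_cancel_right] at h2
    exact (h1.trans h2).symm
  have hcomm : wOf A₀ ≤ centralizer (wOf A₁ : Set G) :=
    hmin 1 (by omega) _ _ hA₀ (Path.one ⟨hne01, c₁, gA₀, gA₁⟩)
  have hfix : x * w₀ * x⁻¹ = w₀ := gA₁.fix_center gA₀ hne01 s₁ s₀ hcomm
  -- `T₂ ≤ N(A₁)`
  have hJw : thompsonSubgroupOf 2 T₁ ≤ centralizer ({w₀} : Set G) := fun t ht =>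
    mem_centralizer_singleton_iff.2
      (mul_inv_eq_iff_eq_mul.1 (hw₀T t (Thompson.thompsonSubgroupOf_le 2 T₁ ht)))
  have hA₁w : A₁ ≤ centralizer ({w₀} : Set G) := by
    rw [← eq_sup_zpowers s₁.comp s₁.x_mem s₁.x_not]
    refine sup_le (fun t ht => mem_centralizer_singleton_iff.2
      (mul_inv_eq_iff_eq_mul.1 (hw₀T t (s₁.core_le ht)))) (zpowers_le.2 ?_)
    exact mem_centralizer_singleton_iff.2 (mul_inv_eq_iff_eq_mul.1 hfix)
  have hT₂L : T₂ ≤ normalizer (A₁ : Set G) := by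
    refine le_trans (fun t ht => ?_) (gA₁.uq.centralizer_le s₀.w_ne
      (by rw [sq]; exact s₀.W_sq s₀.w_mem) hA₁w hJw)
    rw [← hww]
    exact mem_centralizer_singleton_iff.2 (mem_centralizer_iff.1 sn.w_central t ht)
  obtain ⟨l, hl, hlT⟩ : ∃ l ∈ normalizer (A₁ : Set G),
      T₁.map (MulAut.conj l).toMonoidHom = T₂ := by
    obtain ⟨S', hS', hle⟩ := exists_isSylowTwoIn_ge hT₂L gAn.uq.isPGroup
    obtain ⟨l, hl, hlS⟩ := exists_conj_sylowTwoIn gA₁.uq.mem.1 hS'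
    refine ⟨l, hl, hlS.trans (eq_of_le_of_card_ge hle ?_).symm⟩
    rw [← hlS, card_map_of_injective (MulAut.conj l).injective, hT₁, hT₂,
      card_map_of_injective (MulAut.conj c₁).injective,
      card_map_of_injective (MulAut.conj c₂).injective]
  -- `l` can be taken in `⟨x⟩`
  set N' := normalizer (A₁ : Set G) ⊓ normalizer (T₁ : Set G) with hN'
  have hlN : l ∈ A₁ ⊔ N' := by
    refine le_of_components_le hG gA₁.uq.isPGroup gA₁.uq.ne_bot gA₁.uq.mem
      ((le_inf inf_le_left gA₁.norm_J).trans le_sup_right)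
      (fun K' hK' hle => (gA₁.only K' hK' hle).le.trans le_sup_left) hl
  rw [← SetLike.mem_coe, coe_mul_of_right_le_normalizer_left _ _ inf_le_left] at hlN
  obtain ⟨k, hk, m, hm, rfl⟩ := hlN
  have hmT : T₁.map (MulAut.conj m).toMonoidHom = T₁ := mem_normalizer_iff_map_conj_eq.1 hm.2
  beta_reduce at hlT
  rw [← conjmap_comp, hmT] at hlT
  have hk' := inv_mem (SetLike.mem_coe.1 hk)
  rw [← eq_sup_zpowers s₁.comp s₁.x_mem s₁.x_not, ← SetLike.mem_coe,
    coe_mul_of_right_le_normalizer_left _ _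
      (zpowers_le.2 (CharP.le_normalizer_pCoreOf A₁ s₁.x_mem))] at hk'
  obtain ⟨r, hr, _, ⟨j, rfl⟩, hrj⟩ := hk'
  beta_reduce at hrj
  have hk2 : k = x ^ (-j) * r⁻¹ := by
    rw [← inv_inv k, ← hrj, mul_inv_rev, zpow_neg]
  have hrT : T₁.map (MulAut.conj r⁻¹).toMonoidHom = T₁ :=
    mem_normalizer_iff_map_conj_eq.1 (Subgroup.le_normalizer (inv_mem (s₁.core_le hr)))
  rw [hk2, ← conjmap_comp, hrT, zpow_eq_zpow_emod' (-j) s₁.x_pow] at hlT
  -- the end
  have hnT₁ : ¬ Good T₁ An := fun h => hnc (by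
    refine hmin 1 (by omega) _ _ hA₀ (Path.one ⟨fun e => ?_, c₁, gA₀, h⟩)
    subst e
    exact hnc gA₀.wOf_le.2)
  have hn1 : wOf An ≤ centralizer (wOf A₁ : Set G) := by
    refine hmin 1 (by omega) _ _ hAn (Path.one ⟨fun e => hnT₁ (e ▸ gA₁), c₂, gAn, ?_⟩)
    have h := gA₁.change hl
    rwa [show T₁.map (MulAut.conj (k * m)).toMonoidHom = T₂ by
      rw [← conjmap_comp, hmT, hk2, ← conjmap_comp, hrT, zpow_eq_zpow_emod' (-j) s₁.x_pow]
      exact hlT] at h
  have hact : ∀ t ∈ T₂, t * v * t⁻¹ = v ∨ t * v * t⁻¹ = v * w₀ := fun t ht =>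
    hww ▸ sn.conj_W ht hv
  have h03 : ∀ B, Good T₁ B → B ≠ A₀ → wOf A₀ ≤ centralizer (wOf B : Set G) := fun B hB hne' =>
    hmin 1 (by omega) _ _ hA₀ (Path.one ⟨hne'.symm, c₁, gA₀, hB⟩)
  have havc : ¬ Commute a v := fun h => hav h.eq.symm
  have h3 : ((3 : ℕ) : ℤ) = 3 := rfl
  rw [h3] at hlT
  rcases (show (-j) % 3 = 0 ∨ (-j) % 3 = 1 ∨ (-j) % 3 = 2 by omega) with e | e | e <;> rw [e] at hlT
  · rw [zpow_zero, conjmap_one] at hlT
    exact hnT₁ (hlT.symm ▸ gAn)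
  · rw [zpow_one] at hlT
    exact false_of_step gA₀ gA₁ s₁ s₀ hcomm hfix ha ha1 haw hv havc (hlT ▸ gAn)
      (hlT ▸ hact) hn1 h03
  · have hx2 : x ^ (2 : ℤ) = x⁻¹ := by
      rw [show (2 : ℤ) = ((2 : ℕ) : ℤ) from rfl, zpow_natCast]
      exact eq_inv_of_mul_eq_one_left (by rw [← pow_succ]; exact s₁.x_pow)
    rw [hx2] at hlT
    refine false_of_step gA₀ gA₁ s₁.inv s₀ hcomm ?_ ha ha1 haw hv havc (hlT ▸ gAn) (hlT ▸ hact)
      hn1 h03
    conv_lhs => rw [← hfix]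
    group

end Cfsg.Agent.Lib.JComp
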