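import Cfsg.Agent.Lib.JComp.Amalgam
import Cfsg.Agent.Lib.SECount.Basic
import Cfsg.Agent.S2947

/-!
# A second component outside the overgroup of the first
-/

set_option autoImplicit false

namespace Cfsg.Agent.Lib.JComp

open Subgroup
open scoped commutatorElement IsMulCommutative

variable {G : Type*} [Group G] [Finite G] {T T₁ L L' M K : Subgroup G}

/-- A conjugate of `K` under an element outside `L` is not contained in `L`. -/
theorem Uq.conj_not_le (h : Uq T K L) {n : G}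
    (hnJ : n ∈ normalizer (thompsonSubgroupOf 2 T : Set G)) (hnL : n ∉ L) :
    ¬ K.map (MulAut.conj n).toMonoidHom ≤ L := by
  intro hle
  have hJ : (thompsonSubgroupOf 2 T).map (MulAut.conj n).toMonoidHom = thompsonSubgroupOf 2 T :=
    mem_normalizer_iff_map_conj_eq.1 hnJ
  have h1 := map_mono (f := (MulAut.conj n).symm.toMonoidHom) (sup_le hle (hJ.le.trans h.J_le))
  rw [← Subgroup.map_sup, map_symm_map] at h1
  have h2 := h.uniq _ (isTwoLocal_map (MulAut.conj n).symm h.maximal.1) h1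
  have h3 : L ≤ L.map (MulAut.conj n).toMonoidHom :=
    (map_map_symm (MulAut.conj n) L).ge.trans (map_mono h2)
  exact hnL (h.normalizer_le (mem_normalizer_iff_map_conj_eq.2
    (eq_of_le_of_card_ge h3 (by rw [card_map_of_injective (MulAut.conj n).injective])).symm))

/-- An element normalising `T` outside `L` gives a second component. -/
theorem Uq.second_of_normalizer (h : Uq T K L) {u : G} (hu : u ∈ normalizer (T : Set G))
    (huL : u ∉ L) : ∃ K₂ L₂, Uq T K₂ L₂ ∧ ¬ K₂ ≤ L := by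
  have h1 := h.map (MulAut.conj u)
  have e : T.map (MulAut.conj u).toMonoidHom = T := mem_normalizer_iff_map_conj_eq.1 hu
  rw [e] at h1
  exact ⟨_, _, h1, h.conj_not_le (Thompson.normalizer_le 2 T hu) huL⟩

/-- `T < S` gives a second component. -/
theorem Uq.second_of_ne (h : Uq T K L) {S : Sylow 2 G} (hTS : T ≤ (S : Subgroup G))
    (hne : T ≠ (S : Subgroup G)) :
    ∃ u ∈ (S : Subgroup G), u ∈ normalizer (T : Set G) ∧ u ∉ L := by
  by_contra hcon
  push Not at hcon
  refine hne (le_antisymm hTS (le_of_inf_normalizer_le S.isPGroup' hTS fun u hu => ?_))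
  exact le_of_le_sylowTwoIn h.mem.1 (P := (S : Subgroup G) ⊓ normalizer (T : Set G))
    (fun v hv => hcon v hv.1 hv.2) (S.isPGroup'.to_le inf_le_left) inf_le_right hu

theorem Uq.good_pair_of_second (hG : ZNGroup G) (h : Uq T K L) {K₂ L₂ : Subgroup G}
    (h₂ : Uq T K₂ L₂) (hK₂L : ¬ K₂ ≤ L) : L = normalizer (K : Set G) ∧ Good T K ∧ Good T K₂ ∧
      K₂ ≠ K := by
  have hKL₂ : ¬ K ≤ L₂ := fun hle =>
    hK₂L (h₂.le.trans (h.uniq L₂ h₂.maximal.1 (sup_le hle h₂.J_le)))
  obtain ⟨e, g⟩ := good_of_second hG h h₂ hK₂L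
  exact ⟨e, g, (good_of_second hG h₂ h hKL₂).2, fun e' => hK₂L (e' ▸ h.le)⟩

/-- A maximal straddling subgroup exists, inside a given Sylow subgroup of `L`. -/
theorem exists_max_straddling (hne : (straddlingTwoSubgroups L).Nonempty) :
    (maxStraddlingTwoSubgroups L).Nonempty := by
  obtain ⟨T₁, hT₁, h₁⟩ := Set.exists_max_image (straddlingTwoSubgroups L) maxElemAbelianOrder
    (Set.toFinite _) hne
  obtain ⟨T₂, ⟨hT₂, e₂⟩, h₂⟩ := Set.exists_max_image
    {T | T ∈ straddlingTwoSubgroups L ∧ maxElemAbelianOrder T = maxElemAbelianOrder T₁}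
    (fun T => Nat.card ↥(thompsonSubgroupOf 2 T)) (Set.toFinite _) ⟨T₁, hT₁, rfl⟩
  obtain ⟨T₃, ⟨hT₃, e₃, e₃'⟩, h₃⟩ := Set.exists_max_image
    {T | T ∈ straddlingTwoSubgroups L ∧ maxElemAbelianOrder T = maxElemAbelianOrder T₁ ∧
      Nat.card ↥(thompsonSubgroupOf 2 T) = Nat.card ↥(thompsonSubgroupOf 2 T₂)}
    (fun T => Nat.card ↥T) (Set.toFinite _) ⟨T₂, hT₂, e₂, rfl⟩
  refine ⟨T₃, hT₃, fun U hU => ⟨e₃ ▸ h₁ U hU, fun e => ⟨e₃' ▸ h₂ U ⟨hU, e.trans e₃⟩, fun e' =>
    h₃ U ⟨hU, e.trans e₃, e'.trans e₃'⟩⟩⟩⟩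

theorem maxElemAbelianOrder_map (f : G ≃* G) (U : Subgroup G) :
    maxElemAbelianOrder (U.map f.toMonoidHom) = maxElemAbelianOrder U := by
  obtain ⟨A, hA⟩ := Thompson.exists_mem_maxIn 2 U
  rw [maxElemAbelianOrder_eq hA, maxElemAbelianOrder_eq (Thompson.map_mem_maxIn f.injective hA)]
  exact card_map_of_injective f.injective

theorem straddling_map (f : G ≃* G) (hf : L.map f.toMonoidHom = L) {U : Subgroup G}
    (hU : U ∈ straddlingTwoSubgroups L) : U.map f.toMonoidHom ∈ straddlingTwoSubgroups L := by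
  obtain ⟨h1, h2, h3, X, hX, hUX, hXL⟩ := hU
  refine ⟨h1.map _, by rwa [Ne, map_eq_bot_iff_of_injective _ f.injective],
    hf ▸ map_mono h3, X.map f.toMonoidHom, isTwoLocal_map f hX, map_mono hUX, fun h => hXL ?_⟩
  rwa [← hf, map_le_map_iff_of_injective f.injective] at h

theorem maxStraddling_map (f : G ≃* G) (hf : L.map f.toMonoidHom = L) {U : Subgroup G}
    (hU : U ∈ maxStraddlingTwoSubgroups L) :
    U.map f.toMonoidHom ∈ maxStraddlingTwoSubgroups L := by
  refine ⟨straddling_map f hf hU.1, fun V hV => ?_⟩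
  rw [maxElemAbelianOrder_map, thompsonSubgroupOf_map_equiv,
    card_map_of_injective f.injective, card_map_of_injective f.injective]
  exact hU.2 V hV

/-- No maximal straddling subgroup of `L` is properly contained in the Sylow subgroup `S`. -/
theorem false_of_straddle (hG : ZNGroup G) (S : Sylow 2 G)
    (hLT : L ∈ jOvergroups (S : Subgroup G))
    (hNJ : normalizer (thompsonSubgroupOf 2 (S : Subgroup G) : Set G) ≤ L)
    (hK : IsJComponent (S : Subgroup G) K) (hKL : K ≤ L)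
    (hT₁ : T₁ ∈ maxStraddlingTwoSubgroups L) (hTS : T₁ ≤ (S : Subgroup G))
    (hne : T₁ ≠ (S : Subgroup G)) : False := by
  obtain ⟨K', hK'⟩ := jComponentsOutside_nonempty hG S hNJ hT₁
  obtain ⟨L', h'⟩ := exists_uq_of_outside hG S hNJ hT₁ hK'
  obtain ⟨u, huS, huT, huL'⟩ := h'.second_of_ne hTS hne
  obtain ⟨K₂, L₂, h₂, hK₂L⟩ := h'.second_of_normalizer huT huL'
  obtain ⟨-, g₁, g₂, hK21⟩ := h'.good_pair_of_second hG h₂ hK₂L
  obtain ⟨A, B, gA, gB, hnc⟩ := exists_noncomm hG g₁ g₂ hK21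
  have hBA : B ≠ A := fun e => hnc (e ▸ gA.wOf_le.2)
  have f := amalFacts gA gB hnc
  set QA := T₁ ⊓ centralizer (wOf A : Set G) with hQA
  set QB := T₁ ⊓ centralizer (wOf B : Set G) with hQB
  -- elements of `S` normalising `T₁` permute `Q_A`, `Q_B`, swapping them outside `T₁`
  have hswap : ∀ v ∈ (S : Subgroup G), v ∈ normalizer (T₁ : Set G) → v ∉ T₁ →
      QA.map (MulAut.conj v).toMonoidHom = QB ∧ QB.map (MulAut.conj v).toMonoidHom = QA := by
    intro v hvS hvN hvT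
    have e : T₁.map (MulAut.conj v).toMonoidHom = T₁ := mem_normalizer_iff_map_conj_eq.1 hvN
    have hmap : ∀ U : Subgroup G, U ≤ T₁ → IsElementaryAbelian 2 U → Nat.card U = Nat.card QA →
        U.map (MulAut.conj v).toMonoidHom = QA ∨ U.map (MulAut.conj v).toMonoidHom = QB := by
      intro U hU hUe hUc
      have hc : Nat.card ↥(U.map (MulAut.conj v).toMonoidHom) = Nat.card U :=
        card_map_of_injective (MulAut.conj v).injective
      rcases f.le_or_le ((map_mono hU).trans e.le) (fun z hz => by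
          obtain ⟨z₀, hz₀, rfl⟩ := hz
          rw [← map_mul, ← sq, hUe.2 z₀ hz₀, map_one]) with hle | hle
      · exact Or.inl (eq_of_le_of_card_ge hle (by rw [hc, hUc]))
      · exact Or.inr (eq_of_le_of_card_ge hle (by rw [hc, hUc, ← f.card_eq]))
    have hA : QA.map (MulAut.conj v).toMonoidHom ≠ QA := fun e' => hvT (by
      have hvn : v ∈ normalizer (QA : Set G) := mem_normalizer_iff_map_conj_eq.2 e'
      have hQ1 : QA ≠ ⊥ := fun h0 => wOf_ne_bot gA.uq.comp (eq_bot_iff.2 (h0 ▸ gA.wOf_le.1))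
      obtain ⟨x, w, s⟩ := gA.exists_side
      have hvA : v ∈ normalizer (A : Set G) := gA.uq.uniq _
        (isTwoLocal_normalizer (s.isPGroup.to_le inf_le_left) hQ1)
        (sup_le s.K_le_norm_Q ((Thompson.thompsonSubgroupOf_le 2 T₁).trans s.T_le_norm_Q)) hvn
      exact le_of_le_sylowTwoIn gA.uq.mem.1
        (P := (S : Subgroup G) ⊓ normalizer (A : Set G) ⊓ normalizer (T₁ : Set G))
        (inf_le_left.trans inf_le_right) (S.isPGroup'.to_le (inf_le_left.trans inf_le_left))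
        inf_le_right ⟨⟨hvS, hvA⟩, hvN⟩)
    have hAB := (hmap QA inf_le_left f.elem_left rfl).resolve_left hA
    exact ⟨hAB, (hmap QB inf_le_left f.elem_right f.card_eq.symm).resolve_right
      fun e' => f.ne (map_injective (MulAut.conj v).injective (hAB.trans e'.symm))⟩
  -- `V = Ω₁(Z(O₂(L)))`
  set V := omegaCenterOf (pCoreOf 2 L) with hV
  have hOS : pCoreOf 2 L ≤ (S : Subgroup G) := pCoreOf_le_sylowTwoIn hLT.1
  have hVS : V ≤ (S : Subgroup G) := (omegaCenterOf_le _).trans hOS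
  have hVsq : ∀ v ∈ V, v * v = 1 := fun v hv => by rw [← sq]; exact (mem_omegaCenterOf.1 hv).2.2
  have hLV : L ≤ normalizer (V : Set G) :=
    (CharP.le_normalizer_pCoreOf L).trans (normalizer_le_normalizer_omegaCenterOf _)
  have hTV : T₁ ≤ normalizer (V : Set G) := (hTS.trans hLT.1.1).trans hLV
  have hVN : ∀ v ∈ V, v ∈ normalizer (T₁ : Set G) → v ∈ T₁ := by
    intro v hv hvN
    by_contra hvT
    obtain ⟨hAB, -⟩ := hswap v (hVS hv) hvN hvT
    obtain ⟨q, hq, hqB⟩ : ∃ q ∈ QA, q ∉ QB := SetLike.not_le_iff_exists.1 fun hle =>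
      f.ne (eq_of_le_of_card_ge hle f.card_eq.ge)
    have hq' : v * q * v⁻¹ ∈ QB := hAB ▸ ⟨q, hq, rfl⟩
    have hqs : q * q = 1 := by rw [← sq]; exact f.elem_left.2 q hq
    have he : v * q * v⁻¹ * q ∈ V := by
      have h1 : q * v⁻¹ * q⁻¹ ∈ V := conj_mem hTV hq.1 (inv_mem hv)
      have h2 := mul_mem hv h1
      rwa [show v * (q * v⁻¹ * q⁻¹) = v * q * v⁻¹ * q⁻¹ by group,
        inv_eq_of_mul_eq_one_left hqs] at h2
    have heT : v * q * v⁻¹ * q ∈ T₁ := mul_mem hq'.1 hq.1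
    rcases f.invol _ heT (hVsq _ he) with h | h
    · refine hqB ?_
      have h1 : v * q * v⁻¹ ∈ QA := (Subgroup.mul_mem_cancel_right _ hq).1 h
      have h2 := (hswap v (hVS hv) hvN hvT).2
      -- `QB^v = QA = QA` meets the image of `QA`
      obtain ⟨q₂, hq₂, e₂⟩ : v * q * v⁻¹ ∈ QB.map (MulAut.conj v).toMonoidHom := h2.symm ▸ h1
      have : q₂ = q := (MulAut.conj v).injective e₂
      exact this ▸ hq₂
    · exact hqB ((Subgroup.mul_mem_cancel_left _ hq').1 h)
  have hVT : V ≤ T₁ := by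
    refine le_sup_right.trans (le_of_inf_normalizer_le (P := T₁ ⊔ V)
      (S.isPGroup'.to_le (sup_le hTS hVS)) le_sup_left ?_)
    rintro g ⟨hg, hgN⟩
    have hg' : g ∈ ((T₁ ⊔ V : Subgroup G) : Set G) := hg
    rw [coe_mul_of_left_le_normalizer_right _ _ hTV] at hg'
    obtain ⟨t, ht, v, hv, rfl⟩ := hg'
    have hvN : v ∈ normalizer (T₁ : Set G) := by
      have := mul_mem (inv_mem (Subgroup.le_normalizer ht)) hgN
      rwa [inv_mul_cancel_left] at this
    exact T₁.mul_mem ht (hVN v hv hvN)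
  obtain ⟨u₀, hu₀S, hu₀N, hu₀L⟩ := h'.second_of_ne hTS hne
  have hu₀T : u₀ ∉ T₁ := fun h => hu₀L (h'.mem.1.1 h)
  have hVI : V ≤ QA ⊓ QB := by
    obtain ⟨hAB, hBA'⟩ := hswap u₀ hu₀S hu₀N hu₀T
    have hVu : V.map (MulAut.conj u₀).toMonoidHom = V :=
      mem_normalizer_iff_map_conj_eq.1 (hLV (hLT.1.1 hu₀S))
    rcases f.le_or_le hVT hVsq with h | h
    · exact le_inf h (hVu ▸ hAB ▸ map_mono h)
    · exact le_inf (hVu ▸ hBA' ▸ map_mono h) h
  -- `W = V` has order four
  have hWV : wOf K ≤ V := by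
    have hS1 : (S : Subgroup G) ≠ ⊥ := fun e => J_ne_bot hK
      (eq_bot_iff.2 (e ▸ Thompson.thompsonSubgroupOf_le 2 _))
    exact (compFacts hG S.isPGroup' hS1 hLT hK hKL).wOf_le
  have hI4 : Nat.card ↥(QA ⊓ QB) ≤ 4 := by
    have h1 := f.card_inter
    rcases f.card_cases with h | h <;> rw [← hQA] at h h1 <;> rw [← hQB] at h1 <;> omega
  have hWI : wOf K = QA ⊓ QB :=
    eq_of_le_of_card_ge (hWV.trans hVI) (by rw [hK.2.2.2.2.1]; exact hI4)
  have hWeqV : wOf K = V := le_antisymm hWV (hVI.trans hWI.ge)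
  have hWZ : wOf K ≤ omegaCenterOf (thompsonSubgroupOf 2 T₁) := fun z hz => by
    have hz' := hWI.le hz
    exact mem_omegaJ_of hz'.1.1 (hK.2.2.2.2.2 z hz) (centralizer_le
      (SetLike.coe_subset_coe.2 (Thompson.thompsonSubgroupOf_le 2 T₁)) (f.central hz'))
  have hcard := gA.uq.card_fixed_le gB.uq.comp (fun hle => hBA (gA.only B gB.uq.comp hle))
  have hZW : omegaCenterOf (thompsonSubgroupOf 2 T₁) = wOf K :=
    (eq_of_le_of_card_ge hWZ (by rw [hK.2.2.2.2.1]; exact hcard.2.2)).symm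
  -- a nontrivial element of `W` centralised by `A`
  obtain ⟨d, hd, hd1⟩ : ∃ d ∈ omegaCenterOf (thompsonSubgroupOf 2 T₁) ⊓ centralizer (A : Set G),
      d ≠ 1 := by
    rw [← one_lt_card_iff_exists]
    have := card_omegaJ_le gA.uq.isPGroup gA.uq.comp
    rw [hZW, hK.2.2.2.2.1] at this
    rw [hZW]
    omega
  have hCd : centralizer ({d} : Set G) ≤ normalizer (A : Set G) :=
    gA.uq.centralizer_le hd1 (by rw [sq]; exact (mem_omegaJ hd.1).2.1)
      (le_centralizer_singleton hd.2) (mem_omegaJ hd.1).2.2.2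
  have hdW : d ∈ wOf K := hZW.le hd.1
  -- `d` is conjugate to an element of `W` centralised by `S`
  obtain ⟨w, hw, hw1⟩ : ∃ w ∈ wOf K ⊓ centralizer ((S : Subgroup G) : Set G), w ≠ 1 := by
    have hSW : (S : Subgroup G) ≤ normalizer (wOf K : Set G) := hWeqV ▸ hLT.1.1.trans hLV
    by_contra hcon
    push Not at hcon
    exact S2947.no_fixed ((CharP.pCoreOf_isPGroup K).to_le (wOf_le_pCoreOf K)) S.isPGroup' hSW
      (wOf_ne_bot hK) ((eq_bot_iff_forall _).2 hcon)
  obtain ⟨x, hxK, hxo, hxR⟩ := exists_odd_not_mem hK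
  have hxW : x ∈ normalizer (wOf K : Set G) := le_normalizer_wOf Subgroup.le_normalizer hxK
  obtain ⟨g, hg⟩ : ∃ g : G, d = g * w * g⁻¹ := by
    classical
    have hx2o : Odd (orderOf (x * x)) := by
      rw [← sq]; exact Odd.of_dvd_nat hxo (orderOf_pow_dvd 2)
    have hx2R : x * x ∉ pCoreOf 2 K := fun h => hxR (by
      obtain ⟨m, hm⟩ := hxo
      have h1 := pow_mem h (m + 1)
      rwa [← sq, ← pow_mul, show 2 * (m + 1) = orderOf x + 1 by omega, pow_succ, pow_orderOf_eq_one,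
        one_mul] at h1)
    by_contra hcon
    push Not at hcon
    let := Fintype.ofFinite (wOf K)
    have m1 : x * w * x⁻¹ ∈ wOf K := conj_mem le_rfl hxW hw.1
    have m2 : x * x * w * (x * x)⁻¹ ∈ wOf K := conj_mem le_rfl (mul_mem hxW hxW) hw.1
    have hc : ({1, ⟨w, hw.1⟩, ⟨_, m1⟩, ⟨_, m2⟩, ⟨d, hdW⟩} : Finset (wOf K)).card ≤ 4 := by
      rw [← hK.2.2.2.2.1, Nat.card_eq_fintype_card]; exact Finset.card_le_univ _
    have a1 : x * w * x⁻¹ ≠ 1 := fun e => hw1 (conj_eq_one_iff.1 e)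
    have a2 : x * x * w * (x * x)⁻¹ ≠ 1 := fun e => hw1 (conj_eq_one_iff.1 e)
    have a3 : x * w * x⁻¹ ≠ w := fun e => hw1 (eq_one_of_fixed hK hxK hxo hxR hw.1 e)
    have a4 : x * x * w * (x * x)⁻¹ ≠ w := fun e =>
      hw1 (eq_one_of_fixed hK (mul_mem hxK hxK) hx2o hx2R hw.1 e)
    have a5 : x * x * w * (x * x)⁻¹ ≠ x * w * x⁻¹ := fun e => a3 ((MulAut.conj x).injective
      ((show x * (x * w * x⁻¹) * x⁻¹ = x * x * w * (x * x)⁻¹ by group).trans e))
    have a6 := hcon 1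
    rw [one_mul, inv_one, mul_one] at a6
    have a7 := hcon x
    have a8 := hcon (x * x)
    rw [Finset.card_insert_of_notMem (by simp [Subtype.ext_iff, Ne.symm hw1, a1.symm, a2.symm, Ne.symm hd1, -conj_eq_one_iff, -mul_inv_rev]),
      Finset.card_insert_of_notMem (by simp [Subtype.ext_iff, a3.symm, a4.symm, a6.symm, -mul_inv_rev]),
      Finset.card_insert_of_notMem (by simp [Subtype.ext_iff, a5.symm, a7.symm, -mul_inv_rev]),
      Finset.card_insert_of_notMem (by simp [Subtype.ext_iff, a8.symm, -mul_inv_rev]),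
      Finset.card_singleton] at hc
    omega
  have hSd : (S : Subgroup G).map (MulAut.conj g).toMonoidHom ≤ normalizer (A : Set G) := by
    refine le_trans ?_ hCd
    rintro _ ⟨s, hs, rfl⟩
    refine mem_centralizer_singleton_iff.2 ?_
    show g * s * g⁻¹ * d = d * (g * s * g⁻¹)
    have hsw : s * w = w * s := mem_centralizer_iff.1 hw.2 s hs
    rw [hg]
    calc g * s * g⁻¹ * (g * w * g⁻¹) = g * (s * w) * g⁻¹ := by group
      _ = _ := by rw [hsw]; group
  obtain ⟨S', hS', hle⟩ := exists_isSylowTwoIn_ge hSd (S.isPGroup'.map _)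
  obtain ⟨l, hl, hlS⟩ := exists_conj_sylowTwoIn gA.uq.mem.1 hS'
  have h1 := card_le_of_le hle
  rw [← hlS, card_map_of_injective (MulAut.conj g).injective,
    card_map_of_injective (MulAut.conj l).injective] at h1
  exact hne (eq_of_le_of_card_ge hTS h1)

/-- A second component. -/
theorem Uq.exists_second (hG : ZNGroup G) (hO : pCore 2 G = ⊥) (S : Sylow 2 G)
    (hMJ : normalizer (thompsonSubgroupOf 2 (S : Subgroup G) : Set G) ≤ M)
    (hT : T ∈ maxStraddlingTwoSubgroups M) (hTS : T ≤ (S : Subgroup G))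
    (hKM : ¬ K ≤ M) (h : Uq T K L) : ∃ K₂ L₂, Uq T K₂ L₂ ∧ ¬ K₂ ≤ L := by
  by_cases hne : T = (S : Subgroup G)
  swap
  · obtain ⟨u, -, huT, huL⟩ := h.second_of_ne hTS hne
    exact h.second_of_normalizer huT huL
  by_cases hN : normalizer (thompsonSubgroupOf 2 T : Set G) ≤ L
  swap
  · obtain ⟨n, hn, hnL⟩ := SetLike.not_le_iff_exists.1 hN
    set K₂ := K.map (MulAut.conj n).toMonoidHom with hK₂
    have hc : IsJComponent T K₂ := by
      refine isJComponent_congr ?_ (isJComponent_map (MulAut.conj n) h.comp)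
      rw [thompsonSubgroupOf_map_equiv]
      exact mem_normalizer_iff_map_conj_eq.1 hn
    have hKM₂ : ¬ K₂ ≤ M := fun hle => hKM fun k hk => by
      have h1 := hle ⟨k, hk, rfl⟩
      have hnM := normalizer_J_le S hMJ hT hn
      simpa [mul_assoc] using M.mul_mem (M.mul_mem (M.inv_mem hnM) h1) hnM
    have hK₂L : ¬ K₂ ≤ L := h.conj_not_le hn hnL
    have hloc : ∀ X, IsTwoLocal X → K₂ ⊔ T ≤ X → X ∈ jOvergroups T := fun X hX hle =>
      straddle_le hG S hMJ hT hX (fun hXM => hKM₂ ((le_sup_left.trans hle).trans hXM))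
        (le_sup_right.trans hle)
    have hzc := h.le_centralizer_omegaJ hc hK₂L (h.le_norm_of_second hG hc hK₂L hloc)
    have hZeq : omegaCenterOf (S : Subgroup G) = omegaCenterOf (thompsonSubgroupOf 2 T) :=
      hne ▸ omegaCenterOf_eq_omegaJ hzc
    refine h.second_of_normalizer (u := n) ?_ hnL
    have hCn : n ∈ normalizer (centralizer (omegaCenterOf (thompsonSubgroupOf 2 T) : Set G) : Set G) :=
      CharP.le_normalizer_centralizer le_rfl (normalizer_le_normalizer_omegaCenterOf _ hn)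
    refine mem_normalizer_of_map_le ?_
    have hle : T.map (MulAut.conj n).toMonoidHom ≤ normalizer ((S : Subgroup G) : Set G) := by
      refine le_trans ?_ (hG.centralizer_le S)
      rw [hZeq]
      rintro _ ⟨t, ht, rfl⟩
      exact (mem_normalizer_iff.1 hCn t).1 (hzc ht)
    have hsup := (h.isPGroup.map (MulAut.conj n).toMonoidHom).to_sup_of_normal_right' S.isPGroup' hle
    have hmax := S.is_maximal' hsup le_sup_right
    exact ((le_sup_left (b := (S : Subgroup G))).trans hmax.le).trans hne.ge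
  subst hne
  have hLT := h.mem
  have hne : (straddlingTwoSubgroups L).Nonempty := by
    rw [Set.nonempty_iff_ne_empty]
    intro hempty
    have hse : IsStronglyEmbedded L := (S2947.result hG.charTwo hG.solvable hG.centralizer_le hO S L
      h.maximal.1 hN).2 hempty
    refine hLT.2.1 ?_
    obtain ⟨u, hu, huH⟩ := SECount.exists_invo_not_mem hse
    have : Fact (Nat.Prime 2) := ⟨Nat.prime_two⟩
    have hO1 : pCoreOf 2 L ≠ ⊥ := by
      obtain ⟨P, hP, hP1, hPL⟩ := h.maximal.1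
      exact fun e => hP1 (eq_bot_iff.2 (e ▸ CharP.le_pCoreOf (hPL ▸ Subgroup.le_normalizer) hP
        (hPL ▸ le_rfl)))
    obtain ⟨j, hj⟩ := exists_prime_orderOf_dvd_card' (G := pCoreOf 2 L) 2
      ((CharP.pCoreOf_isPGroup L).card_eq_or_dvd.resolve_left
        fun e => hO1 (Subgroup.eq_bot_of_card_eq _ e))
    rw [Thompson.thompsonSubgroupOf_eq_sSup]
    refine sSup_le fun A hA a ha => ?_
    by_cases ha1 : a = 1
    · rw [ha1]; exact one_mem _
    obtain ⟨d, hd, hde⟩ := SECount.exists_conj_mem_inf hse hu huH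
      ((Subgroup.orderOf_coe j).trans hj) (CharP.pCoreOf_le L j.2)
      (SECount.invo_of_sq ha1 (by rw [← sq]; exact hA.1.2 a ha)) (hLT.1.1 (hA.2.1 ha))
    rw [← hde]
    exact conj_mem (CharP.le_normalizer_pCoreOf L) hd.1 j.2
  obtain ⟨T₁, hT₁⟩ := exists_max_straddling hne
  -- move `T₁` into `S`
  obtain ⟨S', hS', hle⟩ := exists_isSylowTwoIn_ge hT₁.1.2.2.1 hT₁.1.1
  obtain ⟨l, hl, hlS⟩ := exists_conj_sylowTwoIn hS' hLT.1
  have hlL : L.map (MulAut.conj l).toMonoidHom = L :=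
    mem_normalizer_iff_map_conj_eq.1 (Subgroup.le_normalizer hl)
  have hT₂ := maxStraddling_map (MulAut.conj l) hlL hT₁
  have hT₂S : T₁.map (MulAut.conj l).toMonoidHom ≤ (S : Subgroup G) := hlS ▸ map_mono hle
  by_cases hT₂ne : T₁.map (MulAut.conj l).toMonoidHom = (S : Subgroup G)
  swap
  · exact (false_of_straddle hG S hLT hN h.comp h.le hT₂ hT₂S hT₂ne).elim
  rw [hT₂ne] at hT₂
  obtain ⟨K₂, hK₂⟩ := jComponentsOutside_nonempty hG S hN hT₂
  obtain ⟨L₂, h₂⟩ := exists_uq_of_outside hG S hN hT₂ hK₂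
  exact ⟨K₂, L₂, h₂, hK₂.2.1⟩

/-- The theory at `T`. -/
theorem exists_good_pair (hG : ZNGroup G) (hO : pCore 2 G = ⊥) (S : Sylow 2 G)
    (hMJ : normalizer (thompsonSubgroupOf 2 (S : Subgroup G) : Set G) ≤ M)
    (hT : T ∈ maxStraddlingTwoSubgroups M) (hTS : T ≤ (S : Subgroup G))
    (hK : K ∈ jComponentsOutside M T) :
    ∃ L K₂, Uq T K L ∧ L = normalizer (K : Set G) ∧ Good T K ∧ Good T K₂ ∧ K₂ ≠ K := by
  obtain ⟨L, h⟩ := exists_uq_of_outside hG S hMJ hT hK
  obtain ⟨K₂, L₂, h₂, hK₂L⟩ := h.exists_second hG hO S hMJ hT hTS hK.2.1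
  obtain ⟨e, g, g₂, hne⟩ := h.good_pair_of_second hG h₂ hK₂L
  exact ⟨L, K₂, h, e, g, g₂, hne⟩

/-- `T` may be assumed to lie in the given Sylow subgroup. -/
theorem exists_sylow_ge (S : Sylow 2 G)
    (hMJ : normalizer (thompsonSubgroupOf 2 (S : Subgroup G) : Set G) ≤ M)
    (hTM : T ≤ M) (hTp : IsPGroup 2 T) :
    ∃ S' : Sylow 2 G, normalizer (thompsonSubgroupOf 2 (S' : Subgroup G) : Set G) ≤ M ∧
      T ≤ (S' : Subgroup G) := by
  have : Fact (Nat.Prime 2) := ⟨Nat.prime_two⟩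
  have hSle : (S : Subgroup G) ≤ M :=
    (Subgroup.le_normalizer.trans (Thompson.normalizer_le 2 _)).trans hMJ
  have hSM : IsSylowTwoIn (S : Subgroup G) M := by
    refine ⟨hSle, S.isPGroup', ?_⟩
    refine Odd.of_dvd_nat (n := (S : Subgroup G).index) ?_ ⟨_, (relIndex_mul_index hSle).symm⟩
    rw [← Nat.not_even_iff_odd, even_iff_two_dvd]
    exact S.not_dvd_index
  obtain ⟨S₁, hS₁, hle⟩ := exists_isSylowTwoIn_ge hTM hTp
  obtain ⟨m, hm, hmS⟩ := exists_conj_sylowTwoIn hSM hS₁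
  obtain ⟨S', hS'⟩ := hS₁.2.1.exists_le_sylow
  have heq : (S' : Subgroup G) = S₁ := (eq_of_le_of_card_ge hS' (by
    rw [← hmS, card_map_of_injective (MulAut.conj m).injective, S'.card_eq_multiplicity,
      S.card_eq_multiplicity])).symm
  refine ⟨S', ?_, hle.trans hS'⟩
  rw [heq, ← hmS, thompsonSubgroupOf_map_equiv,
    show normalizer (((thompsonSubgroupOf 2 (S : Subgroup G)).map (MulAut.conj m).toMonoidHom :
        Subgroup G) : Set G) = (normalizer (thompsonSubgroupOf 2 (S : Subgroup G) : Set G)).map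
        (MulAut.conj m).toMonoidHom from
      (map_normalizer_eq_of_bijective _ (MulAut.conj m).bijective).symm]
  refine (map_mono hMJ).trans ?_
  rintro _ ⟨z, hz, rfl⟩
  exact M.mul_mem (M.mul_mem hm hz) (M.inv_mem hm)

end Cfsg.Agent.Lib.JComp
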