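import Cfsg.Agent.Lib.JComp.Pair

/-!
# A second component: `T` normalises `K` and centralises `Ω₁(Z(J(T)))`
-/

set_option autoImplicit false

namespace Cfsg.Agent.Lib.JComp

open Subgroup
open scoped commutatorElement IsMulCommutative

variable {G : Type*} [Group G] [Finite G] {T L K K₂ : Subgroup G}

omit [Finite G] in
theorem le_centralizer_singleton {H : Subgroup G} {d : G} (h : d ∈ centralizer (H : Set G)) :
    H ≤ centralizer ({d} : Set G) := fun g hg =>
  mem_centralizer_singleton_iff.2 (mem_centralizer_iff.1 h g hg)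

omit [Finite G] in
theorem le_normalizer_zpowers_of_le_centralizer {H : Subgroup G} {d : G}
    (h : H ≤ centralizer ({d} : Set G)) : H ≤ normalizer (zpowers d : Set G) := by
  refine h.trans ?_
  rw [← centralizer_closure, ← zpowers_eq_closure]
  exact centralizer_le_normalizer _

theorem isPGroup_zpowers_of_sq {d : G} (hd1 : d ≠ 1) (hd2 : d * d = 1) :
    IsPGroup 2 (zpowers d) := by
  have : Fact (Nat.Prime 2) := ⟨Nat.prime_two⟩
  exact IsPGroup.of_card (n := 1)
    (by rw [Nat.card_zpowers, orderOf_eq_prime (by rwa [sq]) hd1, pow_one])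

theorem eq_of_card_le_two {D : Subgroup G} (h : Nat.card D ≤ 2) {u v : G} (hu : u ∈ D)
    (hv : v ∈ D) (hu1 : u ≠ 1) (hv1 : v ≠ 1) : u = v := by
  classical
  by_contra hne
  let := Fintype.ofFinite D
  have hc : ({1, ⟨u, hu⟩, ⟨v, hv⟩} : Finset D).card ≤ 2 :=
    le_trans (le_of_le_of_eq (Finset.card_le_univ _) Nat.card_eq_fintype_card.symm) h
  simp [Subtype.ext_iff, Ne.symm hu1, Ne.symm hv1, hne] at hc

theorem one_lt_card_iff_exists {D : Subgroup G} : 1 < Nat.card D ↔ ∃ d ∈ D, d ≠ 1 := by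
  rw [one_lt_card_iff_ne_bot]
  exact ⟨fun h => by simpa [eq_bot_iff_forall] using h,
    fun ⟨d, hd, hd1⟩ h => hd1 ((eq_bot_iff_forall D).1 h d hd)⟩

omit [Finite G] in
theorem mem_omegaJ {z : G} (hz : z ∈ omegaCenterOf (thompsonSubgroupOf 2 T)) :
    z ∈ T ∧ z * z = 1 ∧ z ∈ centralizer (thompsonSubgroupOf 2 T : Set G) ∧
      thompsonSubgroupOf 2 T ≤ centralizer ({z} : Set G) := by
  obtain ⟨h1, h2, h3⟩ := mem_omegaCenterOf.1 hz
  exact ⟨Thompson.thompsonSubgroupOf_le 2 T h1, by rwa [← sq], h2, le_centralizer_singleton h2⟩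

/-- An involution of `T` centralising `J(T)` lies in `Ω₁(Z(J(T)))`. -/
theorem mem_omegaJ_of {z : G} (hzT : z ∈ T) (hz2 : z * z = 1)
    (hzJ : z ∈ centralizer (thompsonSubgroupOf 2 T : Set G)) :
    z ∈ omegaCenterOf (thompsonSubgroupOf 2 T) :=
  mem_omegaCenterOf.2 ⟨Thompson.mem_of_mem_centralizer hzT (by rwa [sq]) hzJ, hzJ, by rwa [sq]⟩

omit [Finite G] in
theorem commute_omegaJ {u v : G} (hu : u ∈ omegaCenterOf (thompsonSubgroupOf 2 T))
    (hv : v ∈ omegaCenterOf (thompsonSubgroupOf 2 T)) : Commute u v :=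
  mem_centralizer_iff.1 (mem_omegaCenterOf.1 hv).2.1 u (mem_omegaCenterOf.1 hu).1

theorem eq_center (hT : IsPGroup 2 T) (hK : IsJComponent T K) {u v : G}
    (hu : u ∈ wOf K) (hu' : u ∈ omegaCenterOf (thompsonSubgroupOf 2 T)) (hu1 : u ≠ 1)
    (hv : v ∈ wOf K) (hv' : v ∈ omegaCenterOf (thompsonSubgroupOf 2 T)) (hv1 : v ≠ 1) : u = v :=
  eq_of_card_le_two (card_inf_centralizer_J hT hK).le
    (show u ∈ wOf K ⊓ centralizer (thompsonSubgroupOf 2 T : Set G) from ⟨hu, (mem_omegaJ hu').2.2.1⟩)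
    ⟨hv, (mem_omegaJ hv').2.2.1⟩ hu1 hv1

theorem exists_center (hT : IsPGroup 2 T) (hK : IsJComponent T K) :
    ∃ w, w ∈ wOf K ∧ w ∈ omegaCenterOf (thompsonSubgroupOf 2 T) ∧ w ≠ 1 := by
  obtain ⟨w, hw, hw1⟩ := one_lt_card_iff_exists.1
    (show 1 < Nat.card ↥(wOf K ⊓ centralizer (thompsonSubgroupOf 2 T : Set G)) by
      rw [card_inf_centralizer_J hT hK]; norm_num)
  exact ⟨w, hw.1, mem_omegaJ_of (Thompson.thompsonSubgroupOf_le 2 T (wOf_le_J hT hK hw.1))
    (hK.2.2.2.2.2 w hw.1) hw.2, hw1⟩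

/-- `[Z₀ : C_{Z₀}(K)] ≤ 2`. -/
theorem card_omegaJ_le (hT : IsPGroup 2 T) (hK : IsJComponent T K) :
    Nat.card ↥(omegaCenterOf (thompsonSubgroupOf 2 T)) ≤
      2 * Nat.card ↥(omegaCenterOf (thompsonSubgroupOf 2 T) ⊓ centralizer (K : Set G)) := by
  refine card_le_two_mul inf_le_left fun s hs t ht hs' ht' => ⟨mul_mem hs ht, ?_⟩
  obtain ⟨c, d, rfl, hc, hcK, hd⟩ := omegaCenterOf_J_decomp hT hK hs
  obtain ⟨c', d', rfl, hc', hcK', hd'⟩ := omegaCenterOf_J_decomp hT hK ht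
  have hcK1 := Subgroup.centralizer_le (SetLike.coe_subset_coe.2 le_sup_left) hcK
  have hcK1' := Subgroup.centralizer_le (SetLike.coe_subset_coe.2 le_sup_left) hcK'
  have hd1 : d ≠ 1 := fun e => hs' ⟨hs, by rw [e, mul_one]; exact hcK1⟩
  have hd1' : d' ≠ 1 := fun e => ht' ⟨ht, by rw [e, mul_one]; exact hcK1'⟩
  have e : d = d' := eq_center hT hK hd.2 hd.1 hd1 hd'.2 hd'.1 hd1'
  rw [← e]
  rw [show c * d * (c' * d) = c * c' * (d * d) by
    rw [mul_assoc c d, ← mul_assoc d c', (commute_omegaJ hd.1 hc').eq]; group,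
    (mem_omegaJ hd.1).2.1, mul_one]
  exact mul_mem hcK1 hcK1'

/-- An overgroup property of `K T`. -/
theorem Uq.overgroup (hG : ZNGroup G) (h : Uq T K L) {X : Subgroup G} (hX : IsTwoLocal X)
    (hle : K ⊔ T ≤ X) : X ∈ jOvergroups T := by
  have hJX : thompsonSubgroupOf 2 T ≤ X :=
    (Thompson.thompsonSubgroupOf_le 2 T).trans (le_sup_right.trans hle)
  have hXL := h.uniq X hX (sup_le (le_sup_left.trans hle) hJX)
  refine ⟨⟨le_sup_right.trans hle, h.isPGroup, Odd.of_dvd_nat h.mem.1.2.2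
    ⟨_, (relIndex_mul_relIndex T X L (le_sup_right.trans hle) hXL).symm⟩⟩, fun hJ => ?_, ?_⟩
  · refine not_le_centralizer_wOf h.comp (le_trans ?_ (pCoreOf_le_centralizer_wOf K))
    calc K = ⁅K, thompsonSubgroupOf 2 T⁆ := h.comp.2.1.symm
      _ ≤ pCoreOf 2 X ⊓ K := le_inf
          ((commutator_mono (le_refl K) hJ).trans
            ((Subgroup.commutator_comm K (pCoreOf 2 X)).le.trans
              (Coprime.commutator_le_of_le_normalizer (K := pCoreOf 2 X) (A := K)
                ((le_sup_left.trans hle).trans (CharP.le_normalizer_pCoreOf X)))))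
          (h.comp.2.1.le)
      _ ≤ pCoreOf 2 K := CharP.le_pCoreOf inf_le_right
          ((CharP.pCoreOf_isPGroup X).to_le inf_le_left)
          ((le_inf ((le_sup_left.trans hle).trans (CharP.le_normalizer_pCoreOf X))
            Subgroup.le_normalizer).trans inf_normalizer_le_normalizer_inf)
  · obtain ⟨P, hP, hP1, rfl⟩ := hX
    have hPQ : P ≤ pCoreOf 2 (normalizer (P : Set G)) :=
      CharP.le_pCoreOf Subgroup.le_normalizer hP le_rfl
    intro x hx
    have hxN : x ∈ normalizer (P : Set G) := centralizer_le_normalizer _ (Subgroup.centralizer_le hPQ hx)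
    refine CharP.mem_pCoreOf_iff.2 ⟨hxN, hG.charTwo.2 P hP hP1 ?_⟩
    rw [mem_centralizer_iff]
    intro y hy
    exact Subtype.ext (mem_centralizer_iff.1 hx (y : G) ⟨y, hy, rfl⟩)

theorem Uq.isSylow_sup (h : Uq T K L) : IsSylowTwoIn T (K ⊔ T) :=
  ⟨le_sup_right, h.isPGroup, Odd.of_dvd_nat h.mem.1.2.2
    ⟨_, (relIndex_mul_relIndex T (K ⊔ T) L le_sup_right (sup_le h.le h.mem.1.1)).symm⟩⟩

theorem Uq.exists_side (h : Uq T K L) (hTK : T ≤ normalizer (K : Set G)) :
    ∃ x w, Side T K x w := JComp.exists_side h.isPGroup h.comp hTK h.isSylow_sup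

theorem Uq.map_mem (h : Uq T K L) {t : G} (ht : t ∈ T) :
    Uq T (K.map (MulAut.conj t).toMonoidHom) L := by
  have h1 := h.map (MulAut.conj t)
  have e1 : T.map (MulAut.conj t).toMonoidHom = T :=
    mem_normalizer_iff_map_conj_eq.1 (Subgroup.le_normalizer ht)
  have e2 : L.map (MulAut.conj t).toMonoidHom = L :=
    mem_normalizer_iff_map_conj_eq.1 (Subgroup.le_normalizer (h.mem.1.1 ht))
  rwa [e1, e2] at h1

/-- An element of `Z₀` centralised by `K` and a component outside `L` is trivial. -/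
theorem Uq.omegaJ_inf_bot (h : Uq T K L) {z : G} (hz : z ∈ omegaCenterOf (thompsonSubgroupOf 2 T))
    (hK : z ∈ centralizer (K : Set G)) {X : Subgroup G} (hX : X ≤ centralizer ({z} : Set G))
    (hXL : ¬ X ≤ L) : z = 1 := by
  by_contra hz1
  obtain ⟨-, h2, -, h4⟩ := mem_omegaJ hz
  exact hXL (hX.trans (h.centralizer_le hz1 (by rwa [sq]) (le_centralizer_singleton hK) h4))

theorem Uq.inf_centralizer_bot (h : Uq T K L) (hK₂L : ¬ K₂ ≤ L) :
    (omegaCenterOf (thompsonSubgroupOf 2 T) ⊓ centralizer (K : Set G)) ⊓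
      (omegaCenterOf (thompsonSubgroupOf 2 T) ⊓ centralizer (K₂ : Set G)) = ⊥ :=
  (eq_bot_iff_forall _).2 fun _ hz =>
    h.omegaJ_inf_bot hz.1.1 hz.1.2 (le_centralizer_singleton hz.2.2) hK₂L

theorem Uq.card_fixed_le (h : Uq T K L) (hK₂ : IsJComponent T K₂) (hK₂L : ¬ K₂ ≤ L) :
    Nat.card ↥(omegaCenterOf (thompsonSubgroupOf 2 T) ⊓ centralizer (K : Set G)) ≤ 2 ∧
      Nat.card ↥(omegaCenterOf (thompsonSubgroupOf 2 T) ⊓ centralizer (K₂ : Set G)) ≤ 2 ∧
      Nat.card ↥(omegaCenterOf (thompsonSubgroupOf 2 T)) ≤ 4 := by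
  set Z := omegaCenterOf (thompsonSubgroupOf 2 T) with hZ
  set D := Z ⊓ centralizer (K : Set G) with hD
  set E := Z ⊓ centralizer (K₂ : Set G) with hE
  have h1 := card_omegaJ_le h.isPGroup h.comp
  have h2 := card_omegaJ_le h.isPGroup hK₂
  rw [← hZ, ← hD] at h1
  rw [← hZ, ← hE] at h2
  have h3 : Nat.card D * Nat.card E ≤ Nat.card Z := by
    refine (card_mul_card_le D E).trans ?_
    rw [hD, hE, h.inf_centralizer_bot hK₂L, card_bot, mul_one]
    exact card_le_of_le (sup_le inf_le_left inf_le_left)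
  have hD0 : 0 < Nat.card D := Nat.card_pos
  have hE0 : 0 < Nat.card E := Nat.card_pos
  have a : Nat.card E ≤ 2 := by
    by_contra hc
    have := Nat.mul_le_mul_left (Nat.card D) (show 3 ≤ Nat.card E by omega)
    omega
  have b : Nat.card D ≤ 2 := by
    by_contra hc
    have := Nat.mul_le_mul_right (Nat.card E) (show 3 ≤ Nat.card D by omega)
    omega
  exact ⟨b, a, by omega⟩

/-- `T` normalises `K`. -/
theorem Uq.le_norm_of_second (hG : ZNGroup G) (h : Uq T K L) (hK₂ : IsJComponent T K₂)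
    (hK₂L : ¬ K₂ ≤ L) (hloc : ∀ X : Subgroup G, IsTwoLocal X → K₂ ⊔ T ≤ X → X ∈ jOvergroups T) :
    T ≤ normalizer (K : Set G) := by
  intro t ht
  by_contra htn
  have hT := h.isPGroup
  set Z := omegaCenterOf (thompsonSubgroupOf 2 T) with hZ
  set K' := K.map (MulAut.conj t).toMonoidHom with hK'
  have h' : Uq T K' L := h.map_mem ht
  have hne : K' ≠ K := fun e => htn (mem_normalizer_iff_map_conj_eq.2 e)
  obtain ⟨w, hwW, hwZ, hw1⟩ := exists_center hT h.comp
  obtain ⟨-, -, hE, hZ4⟩ : True ∧ True ∧ _ ∧ _ :=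
    ⟨trivial, trivial, (h.card_fixed_le hK₂ hK₂L).2⟩
  set w' := t * w * t⁻¹ with hw'
  have hTZ : T ≤ normalizer (Z : Set G) :=
    (Subgroup.le_normalizer.trans (Thompson.normalizer_le 2 T)).trans
      (normalizer_le_normalizer_omegaCenterOf _)
  have hw'Z : w' ∈ Z := conj_mem hTZ ht hwZ
  have hw'W : w' ∈ wOf K' := by rw [hK', wOf_map]; exact ⟨w, hwW, rfl⟩
  have hw'1 : w' ≠ 1 := fun e => hw1 (conj_eq_one_iff.1 e)
  have hww : w' ≠ w := fun e => hne
    (eq_of_wOf_meet hG hT h.ne_bot h.mem h.comp h'.comp h.le h'.le hwW (e ▸ hw'W) hw1)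
  have hwC : centralizer ({w} : Set G) ≤ L :=
    h'.centralizer_le hw1 (by rw [sq]; exact (mem_omegaJ hwZ).2.1)
      ((le_centralizer_wOf_of_ne hG hT h.ne_bot h.mem h.comp h'.comp h.le h'.le hne).trans
        (Subgroup.centralizer_le (Set.singleton_subset_iff.2 hwW))) (mem_omegaJ hwZ).2.2.2
  have hw'C : centralizer ({w'} : Set G) ≤ L :=
    h.centralizer_le hw'1 (by rw [sq]; exact (mem_omegaJ hw'Z).2.1)
      ((le_centralizer_wOf_of_ne hG hT h.ne_bot h.mem h'.comp h.comp h'.le h.le hne.symm).trans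
        (Subgroup.centralizer_le (Set.singleton_subset_iff.2 hw'W))) (mem_omegaJ hw'Z).2.2.2
  set z := w * w' with hz
  have hzZ : z ∈ Z := mul_mem hwZ hw'Z
  have hwsq : w * w = 1 := (mem_omegaJ hwZ).2.1
  have hzne : z ≠ 1 := fun e => hww (by
    rw [← mul_left_cancel_iff (a := w), ← hz, e, hwsq])
  -- the elements of `Z`
  have hcases : ∀ v ∈ Z, v = 1 ∨ v = w ∨ v = w' ∨ v = z := by
    classical
    intro v hv
    by_contra hcon
    push Not at hcon
    let := Fintype.ofFinite Z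
    have hc : ({1, ⟨w, hwZ⟩, ⟨w', hw'Z⟩, ⟨z, hzZ⟩, ⟨v, hv⟩} : Finset Z).card ≤ 4 :=
      le_trans (le_of_le_of_eq (Finset.card_le_univ _) Nat.card_eq_fintype_card.symm) hZ4
    have e1 : w ≠ z := fun e => hw'1 (mul_eq_left.1 e.symm)
    have e2 : w' ≠ z := fun e => hw1 (mul_eq_right.1 e.symm)
    simp [Subtype.ext_iff, Ne.symm hw1, Ne.symm hw'1, Ne.symm hzne, Ne.symm hcon.1,
      Ne.symm hcon.2.1, Ne.symm hcon.2.2.1, Ne.symm hcon.2.2.2, hww.symm, e1, e2] at hc
  have hzK₂ : z ∈ centralizer (K₂ : Set G) := by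
    obtain ⟨d, hd, hd1⟩ : ∃ d ∈ Z ⊓ centralizer (K₂ : Set G), d ≠ 1 := by
      rw [← one_lt_card_iff_exists]
      by_contra hc
      have h1 := card_omegaJ_le hT hK₂
      rw [← hZ] at h1
      have h2 : Nat.card Z ≤ 2 := by omega
      exact hww (eq_of_card_le_two h2 hw'Z hwZ hw'1 hw1)
    rcases hcases d hd.1 with rfl | rfl | rfl | rfl
    · exact absurd rfl hd1
    · exact absurd ((le_centralizer_singleton hd.2).trans hwC) hK₂L
    · exact absurd ((le_centralizer_singleton hd.2).trans hw'C) hK₂L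
    · exact hd.2
  -- `T` centralises `z`
  have hTz : T ≤ centralizer ({z} : Set G) := by
    intro s hs
    have hconj : ∀ u ∈ Z, u ≠ 1 → centralizer ({u} : Set G) ≤ L → s * u * s⁻¹ ≠ z := by
      intro u hu hu1 hC e
      refine hK₂L fun k hk => ?_
      have h1 : s⁻¹ * k * s ∈ centralizer ({u} : Set G) := by
        have hkz : k * z = z * k :=
          mem_centralizer_singleton_iff.1 (le_centralizer_singleton hzK₂ hk)
        rw [← e] at hkz
        refine mem_centralizer_singleton_iff.2 ?_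
        calc s⁻¹ * k * s * u = s⁻¹ * (k * (s * u * s⁻¹)) * s := by group
          _ = u * (s⁻¹ * k * s) := by rw [hkz]; group
      have hsL := h.mem.1.1 hs
      simpa [mul_assoc] using L.mul_mem (L.mul_mem hsL (hC h1)) (L.inv_mem hsL)
    have hcw : ∀ u ∈ Z, u ≠ 1 → centralizer ({u} : Set G) ≤ L →
        s * u * s⁻¹ = w ∨ s * u * s⁻¹ = w' := by
      intro u hu hu1 hC
      rcases hcases _ (conj_mem hTZ hs hu) with e | e | e | e
      · exact absurd (conj_eq_one_iff.1 e) hu1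
      · exact Or.inl e
      · exact Or.inr e
      · exact absurd e (hconj u hu hu1 hC)
    refine mem_centralizer_singleton_iff.2 (mul_inv_eq_iff_eq_mul.1 ?_)
    have hsz : s * z * s⁻¹ = (s * w * s⁻¹) * (s * w' * s⁻¹) := by rw [hz]; group
    rcases hcw w hwZ hw1 hwC with e | e <;> rcases hcw w' hw'Z hw'1 hw'C with e' | e'
    · exact absurd ((MulAut.conj s).injective (e'.trans e.symm)) hww
    · rw [hsz, e, e']
    · rw [hsz, e, e', hz]; exact (commute_omegaJ hw'Z hwZ).eq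
    · exact absurd ((MulAut.conj s).injective (e'.trans e.symm)) hww
  -- the local subgroup of `z`
  set X := normalizer (zpowers z : Set G) with hX
  have hzz : z * z = 1 := (mem_omegaJ hzZ).2.1
  have hXloc : IsTwoLocal X :=
    isTwoLocal_normalizer (isPGroup_zpowers_of_sq hzne hzz) (by rwa [Ne, zpowers_eq_bot])
  have hKX : K₂ ≤ X := le_normalizer_zpowers_of_le_centralizer (le_centralizer_singleton hzK₂)
  have hTX : T ≤ X := le_normalizer_zpowers_of_le_centralizer hTz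
  have hXT := hloc X hXloc (sup_le hKX hTX)
  set K₃ := K₂.map (MulAut.conj t).toMonoidHom with hK₃
  have hK₃c : IsJComponent T K₃ := by
    have h1 := isJComponent_map (MulAut.conj t) hK₂
    have e1 : T.map (MulAut.conj t).toMonoidHom = T :=
      mem_normalizer_iff_map_conj_eq.1 (Subgroup.le_normalizer ht)
    rwa [e1] at h1
  have hK₃X : K₃ ≤ X := by
    rintro _ ⟨k, hk, rfl⟩
    exact X.mul_mem (X.mul_mem (hTX ht) (hKX hk)) (X.inv_mem (hTX ht))
  -- the centre of `W₂`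
  obtain ⟨c, d, hwe, hcZ, hcK, hd⟩ := omegaCenterOf_J_decomp hT hK₂ hwZ
  have hc2 : c ∈ Z ⊓ centralizer (K₂ : Set G) :=
    ⟨hcZ, Subgroup.centralizer_le (SetLike.coe_subset_coe.2 le_sup_left) hcK⟩
  have hd1 : d ≠ 1 := fun e => hK₂L ((le_centralizer_singleton (d := w)
    (by rw [hwe, e, mul_one]; exact hc2.2)).trans hwC)
  have hdw : d = w ∨ d = w' := by
    by_cases hc1 : c = 1
    · left; rw [hwe, hc1, one_mul]
    · right
      have hcz : c = z := eq_of_card_le_two hE hc2 ⟨hzZ, hzK₂⟩ hc1 hzne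
      rw [hcz] at hwe
      calc d = z⁻¹ * (z * d) := (inv_mul_cancel_left z d).symm
        _ = z⁻¹ * w := by rw [← hwe]
        _ = w' := by
          rw [inv_eq_of_mul_eq_one_left hzz, hz, mul_assoc, (commute_omegaJ hw'Z hwZ).eq,
            ← mul_assoc, hwsq, one_mul]
  have htd : t * d * t⁻¹ ≠ d := by
    rintro e
    rcases hdw with rfl | rfl
    · exact hww e
    · exact hww ((MulAut.conj t).injective (e.trans hw'))
  have htdW : t * d * t⁻¹ ∈ wOf K₃ := by rw [hK₃, wOf_map]; exact ⟨d, hd.2, rfl⟩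
  have hne₃ : K₂ ≠ K₃ := fun e => htd (eq_center hT hK₂ (e ▸ htdW) (conj_mem hTZ ht hd.1)
    (fun e' => hd1 (conj_eq_one_iff.1 e')) hd.2 hd.1 hd1)
  have hfix : K₂ ≤ centralizer ({t * d * t⁻¹} : Set G) :=
    (le_centralizer_wOf_of_ne hG hT h.ne_bot hXT hK₃c hK₂ hK₃X hKX hne₃).trans
      (Subgroup.centralizer_le (Set.singleton_subset_iff.2 htdW))
  rcases hcases _ (conj_mem hTZ ht hd.1) with e | e | e | e
  · exact hd1 (conj_eq_one_iff.1 e)
  · exact hK₂L (hfix.trans (e ▸ hwC))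
  · exact hK₂L (hfix.trans (e ▸ hw'C))
  · rcases hdw with rfl | rfl
    · exact hw1 (mul_eq_right.1 (e.symm : z = w'))
    · have h2 : t * z * t⁻¹ = z :=
        mul_inv_eq_iff_eq_mul.2 (mem_centralizer_singleton_iff.1 (hTz ht))
      exact hw1 (mul_eq_right.1 ((MulAut.conj t).injective (h2.trans e.symm) : z = w'))

/-- `T` centralises `Z₀`, so `Ω₁(Z(T)) = Z₀`. -/
theorem Uq.le_centralizer_omegaJ (h : Uq T K L) (hK₂ : IsJComponent T K₂) (hK₂L : ¬ K₂ ≤ L)
    (hTK : T ≤ normalizer (K : Set G)) :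
    T ≤ centralizer (omegaCenterOf (thompsonSubgroupOf 2 T) : Set G) := by
  intro t ht
  set Z := omegaCenterOf (thompsonSubgroupOf 2 T) with hZ
  have hTZ : T ≤ normalizer (Z : Set G) :=
    (Subgroup.le_normalizer.trans (Thompson.normalizer_le 2 T)).trans
      (normalizer_le_normalizer_omegaCenterOf _)
  refine mem_centralizer_iff.2 fun u hu => ?_
  obtain ⟨c, d, rfl, hcZ, hcK, hd⟩ := omegaCenterOf_J_decomp h.isPGroup h.comp hu
  have hcK' := Subgroup.centralizer_le (SetLike.coe_subset_coe.2 le_sup_left) hcK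
  have hc : Commute t c := by
    by_cases hc1 : c = 1
    · rw [hc1]; exact Commute.one_right t
    refine mul_inv_eq_iff_eq_mul.1 (eq_of_card_le_two (h.card_fixed_le hK₂ hK₂L).1
      (show t * c * t⁻¹ ∈ Z ⊓ centralizer (K : Set G) from
        ⟨conj_mem hTZ ht hcZ, conj_mem (CharP.le_normalizer_centralizer hTK) ht hcK'⟩)
      ⟨hcZ, hcK'⟩ (fun e => hc1 (conj_eq_one_iff.1 e)) hc1)
  have hd' : Commute t d := by
    by_cases hd1 : d = 1
    · rw [hd1]; exact Commute.one_right t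
    exact mul_inv_eq_iff_eq_mul.1 (eq_center h.isPGroup h.comp
      (conj_mem (le_normalizer_wOf hTK) ht hd.2) (conj_mem hTZ ht hd.1)
      (fun e => hd1 (conj_eq_one_iff.1 e)) hd.2 hd.1 hd1)
  exact (hc.mul_right hd').eq.symm

theorem omegaCenterOf_eq_omegaJ
    (hTZ : T ≤ centralizer (omegaCenterOf (thompsonSubgroupOf 2 T) : Set G)) :
    omegaCenterOf T = omegaCenterOf (thompsonSubgroupOf 2 T) := by
  refine le_antisymm (fun z hz => ?_) fun z hz => ?_
  · obtain ⟨h1, h2, h3⟩ := mem_omegaCenterOf.1 hz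
    exact mem_omegaJ_of h1 (by rwa [← sq])
      (Subgroup.centralizer_le (SetLike.coe_subset_coe.2 (Thompson.thompsonSubgroupOf_le 2 T)) h2)
  · obtain ⟨h1, h2, -, -⟩ := mem_omegaJ hz
    exact mem_omegaCenterOf.2 ⟨h1, mem_centralizer_iff.2 fun t ht =>
      (mem_centralizer_iff.1 (hTZ ht) z hz).symm, by rwa [sq]⟩

/-- `Ω₁(Z(S)) ≤ Z₀` for a Sylow subgroup `S` containing `T`. -/
theorem Uq.omega_sylow_le (h : Uq T K L) (S : Sylow 2 G) (hTS : T ≤ (S : Subgroup G)) :
    omegaCenterOf (S : Subgroup G) ≤ omegaCenterOf (thompsonSubgroupOf 2 T) := by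
  intro z hz
  obtain ⟨-, h2, h3⟩ := mem_omegaCenterOf.1 hz
  have hzT : z ∈ T := pCoreOf_le_sylowTwoIn h.mem.1 (h.mem.2.2
    (Subgroup.centralizer_le (SetLike.coe_subset_coe.2 ((pCoreOf_le_sylowTwoIn h.mem.1).trans hTS)) h2))
  exact mem_omegaJ_of hzT (by rwa [← sq])
    (Subgroup.centralizer_le (SetLike.coe_subset_coe.2 ((Thompson.thompsonSubgroupOf_le 2 T).trans hTS)) h2)

/-- `N(J(T))` and `C(Ω₁(Z(S))) ≤ N(S)` force elements of `L` normalising `J(T)` to normalise `T`. -/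
theorem Uq.inf_normalizer_J_le (hG : ZNGroup G) (h : Uq T K L)
    (hTZ : T ≤ centralizer (omegaCenterOf (thompsonSubgroupOf 2 T) : Set G)) :
    L ⊓ normalizer (thompsonSubgroupOf 2 T : Set G) ≤ normalizer (T : Set G) := by
  obtain ⟨S, hTS⟩ := h.isPGroup.exists_le_sylow
  intro n hn
  have hCS : centralizer (omegaCenterOf (thompsonSubgroupOf 2 T) : Set G) ≤
      normalizer ((S : Subgroup G) : Set G) :=
    (Subgroup.centralizer_le (SetLike.coe_subset_coe.2 (h.omega_sylow_le S hTS))).trans (hG.centralizer_le S)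
  have hnC : n ∈ normalizer
      (centralizer (omegaCenterOf (thompsonSubgroupOf 2 T) : Set G) : Set G) :=
    CharP.le_normalizer_centralizer le_rfl (normalizer_le_normalizer_omegaCenterOf _ hn.2)
  refine mem_normalizer_of_map_le ?_
  rintro _ ⟨t, ht, rfl⟩
  have h1 : n * t * n⁻¹ ∈ L := L.mul_mem (L.mul_mem hn.1 (h.mem.1.1 ht)) (L.inv_mem hn.1)
  have hzp : zpowers (n * t * n⁻¹) ≤ normalizer ((S : Subgroup G) : Set G) :=
    zpowers_le.2 (hCS ((mem_normalizer_iff.1 hnC t).1 (hTZ ht)))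
  obtain ⟨k, hk⟩ := h.isPGroup ⟨t, ht⟩
  have htp : IsPGroup 2 (zpowers (n * t * n⁻¹)) := by
    have : Fact (Nat.Prime 2) := ⟨Nat.prime_two⟩
    obtain ⟨j, -, hj⟩ := (Nat.dvd_prime_pow Nat.prime_two).1
      (orderOf_dvd_of_pow_eq_one (show (n * t * n⁻¹) ^ 2 ^ k = 1 by
        rw [conj_pow, show t ^ 2 ^ k = 1 from congrArg Subtype.val hk, mul_one, mul_inv_cancel]))
    exact IsPGroup.of_card (n := j) (by rw [Nat.card_zpowers, hj])
  have h2 : n * t * n⁻¹ ∈ (S : Subgroup G) := by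
    have hsup := htp.to_sup_of_normal_right' S.isPGroup' hzp
    rw [← S.is_maximal' hsup le_sup_right]
    exact mem_sup_left (mem_zpowers _)
  exact le_of_le_sylowTwoIn h.mem.1 (P := (S : Subgroup G) ⊓ L ⊓ normalizer (T : Set G))
    (inf_le_left.trans inf_le_right) (S.isPGroup'.to_le (inf_le_left.trans inf_le_left))
    inf_le_right ⟨⟨h2, h1⟩, by
      by_contra hcon
      have hle : (S : Subgroup G) ⊓ L ≤ T := le_of_inf_normalizer_le
        (S.isPGroup'.to_le inf_le_left) (le_inf hTS h.mem.1.1)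
        (le_of_le_sylowTwoIn h.mem.1 (inf_le_left.trans inf_le_right)
          (S.isPGroup'.to_le (inf_le_left.trans inf_le_left)) inf_le_right)
      exact hcon (Subgroup.le_normalizer (hle ⟨h2, h1⟩))⟩

end Cfsg.Agent.Lib.JComp
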