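import Cfsg.Agent.Lib.JComp.Amalgam

/-!
# The maximal 2-local subgroups at `T` are `S₄` or `S₄ × C₂`
-/

set_option autoImplicit false

namespace Cfsg.Agent.Lib.JComp

open Subgroup
open scoped commutatorElement IsMulCommutative

variable {G : Type*} [Group G] [Finite G] {T A B K : Subgroup G} {x y w v : G}

/-- An element of order 3 of `K` inverted by the involution `v ∈ T ∖ C_T(W)`. -/
theorem Side.exists_inverted_three (s : Side T K x w)
    (hR : ∀ q ∈ pCoreOf 2 K, q * q = 1) (hv : v ∈ T) (hv2 : v * v = 1)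
    (hvQ : v ∉ T ⊓ centralizer (wOf K : Set G)) :
    ∃ y, Side T K y w ∧ v * y * v⁻¹ = y⁻¹ := by
  set R := pCoreOf 2 K with hRdef
  set r := v * x * v⁻¹ * x with hr
  have hrR : r ∈ R := s.inverts hv hvQ
  have hvinv : v⁻¹ = v := inv_eq_of_mul_eq_one_left hv2
  set g := v * (x * v * x⁻¹) with hg
  have hgr : g = r * x := by
    have hxx : x⁻¹ = x * x :=
      inv_eq_of_mul_eq_one_right (by rw [← pow_three]; exact s.x_pow)
    rw [hg, hr, hvinv, hxx]; group
  have hgK : g ∈ K := by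
    rw [hgr]; exact K.mul_mem (CharP.pCoreOf_le K hrR) s.x_mem
  have hinv : v * g * v⁻¹ = g⁻¹ := by
    rw [hg, mul_inv_rev, mul_inv_rev, mul_inv_rev, inv_inv, hvinv]
    calc v * (v * (x * v * x⁻¹)) * v = (v * v) * (x * v * x⁻¹) * v := by group
      _ = x * (v * x⁻¹) * v := by rw [hv2, one_mul, mul_assoc x v x⁻¹]
  have hn : (R.subgroupOf K).Normal :=
    normal_subgroupOf_of_le_normalizer (CharP.le_normalizer_pCoreOf K)
  have hg3 : g ^ 3 ∈ R := by
    have h := Subgroup.pow_index_mem (R.subgroupOf K) ⟨g, hgK⟩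
    rw [show (R.subgroupOf K).index = 3 from s.comp.2.2.1, mem_subgroupOf] at h
    simpa using h
  refine ⟨g ^ 4, ⟨s.isPGroup, s.comp, s.le_norm, K.pow_mem hgK 4, ?_, fun h => ?_, s.w_mem, s.w_ne,
    s.w_central, s.core_le⟩, ?_⟩
  · rw [← pow_mul, show 4 * 3 = 3 * 2 * 2 from rfl, pow_mul, pow_mul, sq (g ^ 3), hR _ hg3,
      one_pow]
  · have h1 : g ∈ R := by
      have := R.mul_mem h (R.inv_mem hg3)
      rwa [show g ^ 4 * (g ^ 3)⁻¹ = g by group] at this
    rw [hgr] at h1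
    refine s.x_not ?_
    have := R.mul_mem (R.inv_mem hrR) h1
    rwa [inv_mul_cancel_left] at this
  · rw [← conj_pow, hinv, inv_pow]

/-- `C_L(W) = Q` and `L = K T` for `L = N(K)`. -/
theorem Good.normalizer_eq_sup (g : Good T K) (s : Side T K x w)
    (hQ : IsElementaryAbelian 2 (T ⊓ centralizer (wOf K : Set G)))
    (hcard : Nat.card ↥(T ⊓ centralizer (wOf K : Set G)) = 4 ∨
      Nat.card ↥(T ⊓ centralizer (wOf K : Set G)) = 8) (hG : ZNGroup G) :
    normalizer (K : Set G) = K ⊔ T := by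
  have : Fact (Nat.Prime 2) := ⟨Nat.prime_two⟩
  set L := normalizer (K : Set G) with hL
  set Q := T ⊓ centralizer (wOf K : Set G) with hQdef
  set W := wOf K with hW
  have hLW : L ≤ normalizer (W : Set G) := le_normalizer_wOf le_rfl
  have hWQ : W ≤ Q := g.wOf_le.1
  have hLQ : L ≤ normalizer (Q : Set G) := by
    rw [hQdef, g.core]; exact CharP.le_normalizer_pCoreOf L
  have hQc : ∀ {a b : G}, a ∈ Q → b ∈ Q → a * b = b * a := fun ha hb => ElemAbelian.comm hQ ha hb
  have hCQ : L ⊓ centralizer (Q : Set G) ≤ Q := by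
    have := g.uq.mem.2.2
    rw [← g.core] at this
    exact inf_le_right.trans this
  set C := L ⊓ centralizer (W : Set G) with hC
  have hsq : ∀ c ∈ C, c * c ∈ Q := by
    intro c hc
    refine hCQ ⟨L.mul_mem hc.1 hc.1, mem_centralizer_iff.2 fun q hq => ?_⟩
    suffices h : c * c * q * (c * c)⁻¹ = q from (mul_inv_eq_iff_eq_mul.1 h).symm
    have hcW : ∀ u ∈ W, c * u * c⁻¹ = u := fun u hu =>
      mul_inv_eq_iff_eq_mul.2 (mem_centralizer_iff.1 hc.2 u hu).symm
    by_cases hqW : q ∈ W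
    · calc c * c * q * (c * c)⁻¹ = c * (c * q * c⁻¹) * c⁻¹ := by group
        _ = q := by rw [hcW q hqW, hcW q hqW]
    have he : c * q * c⁻¹ * q⁻¹ ∈ W := by
      have hq' : c * q * c⁻¹ ∈ Q := conj_mem hLQ hc.1 hq
      have hnot : c * q * c⁻¹ ∉ W := fun h => hqW (by
        have h1 := conj_mem hLW (L.inv_mem hc.1) h
        rwa [show c⁻¹ * (c * q * c⁻¹) * c⁻¹⁻¹ = q by group] at h1)
      rcases hcard with h | h
      · exact absurd ((eq_of_le_of_card_ge hWQ (by rw [h, s.comp.2.2.2.2.1])).ge hq) hqW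
      · have hidx : (W.subgroupOf Q).index = 2 := by
          have h1 := relIndex_mul_relIndex ⊥ W Q bot_le hWQ
          rw [relIndex_bot_left, relIndex_bot_left, s.comp.2.2.2.2.1, h] at h1
          rw [show (W.subgroupOf Q).index = W.relIndex Q from rfl]
          omega
        have h2 := (mul_mem_iff_of_index_two hidx (a := ⟨_, hq'⟩) (b := ⟨q, hq⟩⁻¹)).2
          (by simp [mem_subgroupOf, hnot, hqW])
        simpa [mem_subgroupOf] using h2
    set e := c * q * c⁻¹ * q⁻¹ with hedef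
    have h1 : c * q * c⁻¹ = e * q := by rw [hedef]; group
    calc c * c * q * (c * c)⁻¹ = c * (c * q * c⁻¹) * c⁻¹ := by group
      _ = c * (e * q) * c⁻¹ := by rw [h1]
      _ = (c * e * c⁻¹) * (c * q * c⁻¹) := by group
      _ = q := by rw [hcW e he, h1, ← mul_assoc, s.W_sq he, one_mul]
  have hCp : IsPGroup 2 C := fun c => ⟨2, Subtype.ext (by
    have h := hQ.2 _ (hsq c c.2)
    rwa [← sq, ← pow_mul] at h)⟩
  have hCle : C ≤ Q := by
    rw [hQdef, g.core]
    exact CharP.le_pCoreOf inf_le_left hCp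
      (Coprime.le_normalizer_inf_centralizer Subgroup.le_normalizer hLW)
  have hLT : L ⊓ normalizer (T : Set G) ≤ T := by
    intro n hn
    obtain ⟨hnL, hnT⟩ := hn
    have hnW : n ∈ normalizer (W : Set G) := hLW hnL
    have hwfix : n * w * n⁻¹ = w := by
      refine eq_center g.uq.isPGroup g.uq.comp (conj_mem le_rfl hnW s.w_mem) ?_
        (fun e => s.w_ne (conj_eq_one_iff.1 e)) s.w_mem s.w_mem_omegaJ s.w_ne
      exact conj_mem le_rfl (normalizer_le_normalizer_omegaCenterOf _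
        (Thompson.normalizer_le 2 T hnT)) s.w_mem_omegaJ
    obtain ⟨u, hu, hu1, huw⟩ := s.exists_gen
    have hcent : ∀ c ∈ L, c * w * c⁻¹ = w → c * u * c⁻¹ = u → c ∈ T := by
      intro c hc hcw hcu
      refine (hCle ⟨hc, mem_centralizer_iff.2 fun z hz => ?_⟩).1
      suffices h : c * z * c⁻¹ = z from (mul_inv_eq_iff_eq_mul.1 h).symm
      rcases s.W_cases hu hu1 huw hz with rfl | rfl | rfl | rfl
      · group
      · exact hcw
      · exact hcu
      · calc c * (u * w) * c⁻¹ = (c * u * c⁻¹) * (c * w * c⁻¹) := by group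
          _ = u * w := by rw [hcu, hcw]
    rcases s.W_cases hu hu1 huw (conj_mem le_rfl hnW hu) with e | e | e | e
    · exact absurd (conj_eq_one_iff.1 e) hu1
    · exact absurd ((MulAut.conj n).injective (e.trans hwfix.symm)) huw
    · exact hcent n hnL hwfix e
    · obtain ⟨t, ht, htQ⟩ := s.exists_J_not_mem
      have htT := Thompson.thompsonSubgroupOf_le 2 T ht
      have htw : t * w * t⁻¹ = w :=
        mul_inv_eq_iff_eq_mul.2 (mem_centralizer_iff.1 s.w_central t htT)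
      have htu : t * u * t⁻¹ = u * w :=
        (s.conj_W htT hu).resolve_left fun e => htQ ((s.mem_Q_iff hu hu1 huw htT).2 e)
      have h := hcent (t * n) (L.mul_mem (g.le_norm htT) hnL) ?_ ?_
      · have := T.mul_mem (T.inv_mem htT) h
        rwa [inv_mul_cancel_left] at this
      · calc t * n * w * (t * n)⁻¹ = t * (n * w * n⁻¹) * t⁻¹ := by group
          _ = w := by rw [hwfix, htw]
      · calc t * n * u * (t * n)⁻¹ = t * (n * u * n⁻¹) * t⁻¹ := by group
          _ = (t * u * t⁻¹) * (t * w * t⁻¹) := by rw [e]; group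
          _ = u := by rw [htu, htw, mul_assoc, s.W_sq s.w_mem, mul_one]
  refine le_antisymm ?_ (sup_le Subgroup.le_normalizer g.le_norm)
  exact le_of_components_le hG g.uq.isPGroup g.uq.ne_bot g.uq.mem
    ((le_inf inf_le_left g.norm_J).trans (hLT.trans le_sup_right))
    fun K' hK' hle => (g.only K' hK' hle).le.trans le_sup_left

/-- The isomorphism type of `N(A)`. -/
theorem normalizer_iso (hG : ZNGroup G) (gA : Good T A) (gB : Good T B)
    (hnc : ¬ wOf A ≤ centralizer (wOf B : Set G)) :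
    (Nat.card ↥(T ⊓ centralizer (wOf A : Set G)) = 4 →
      Nonempty (↥(normalizer (A : Set G)) ≃* Equiv.Perm (Fin 4))) ∧
    (Nat.card ↥(T ⊓ centralizer (wOf A : Set G)) = 8 →
      Nonempty (↥(normalizer (A : Set G)) ≃* Equiv.Perm (Fin 4) × Multiplicative (ZMod 2))) := by
  classical
  have f := amalFacts gA gB hnc
  set Q := T ⊓ centralizer (wOf A : Set G) with hQ
  set W := wOf A with hW
  obtain ⟨x, w, sa⟩ := gA.exists_side
  obtain ⟨x', w', sb⟩ := gB.exists_side
  have hnc' : ¬ wOf B ≤ centralizer (W : Set G) := fun h => hnc (le_centralizer_iff.1 h)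
  obtain ⟨v, hv, hvA⟩ := SetLike.not_le_iff_exists.1 hnc'
  have hvT := sb.W_le hv
  have hvQ : v ∉ Q := fun h => hvA h.2
  have hv2 : v * v = 1 := sb.W_sq hv
  have hQsq : ∀ q ∈ Q, q * q = 1 := fun q hq => by rw [← sq]; exact f.elem_left.2 q hq
  obtain ⟨y, s, hinv⟩ := sa.exists_inverted_three (fun q hq => hQsq q (sa.core_le_Q hq)) hvT hv2 hvQ
  obtain ⟨-, hdec⟩ := pair_core sb s hv hvQ
  set L := normalizer (A : Set G) with hL
  have hLeq : L = A ⊔ T := gA.normalizer_eq_sup s f.elem_left f.card_cases hG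
  have hLcard : Nat.card L = 6 * Nat.card Q := by rw [hLeq, s.card_sup, s.card_T]; ring
  have hyv : v ∈ normalizer (zpowers y : Set G) := by
    refine mem_normalizer_of_map_le ?_
    rw [MonoidHom.map_zpowers, zpowers_le]
    show v * y * v⁻¹ ∈ zpowers y
    rw [hinv]; exact inv_mem (mem_zpowers y)
  set H := zpowers y ⊔ zpowers v with hH
  have hHW : H ≤ normalizer (W : Set G) :=
    sup_le (zpowers_le.2 s.x_norm_W) (zpowers_le.2 (s.le_norm_W hvT))
  -- `H` is faithful on `W`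
  have hHC : ∀ h ∈ H, h ∈ centralizer (W : Set G) → h = 1 := by
    intro h hh hhC
    rw [hH, ← SetLike.mem_coe,
      coe_mul_of_right_le_normalizer_left _ _ (zpowers_le.2 hyv)] at hh
    obtain ⟨_, ⟨i, rfl⟩, z, hz, rfl⟩ := hh
    have hw := mul_inv_eq_iff_eq_mul.2 (mem_centralizer_iff.1 hhC w s.w_mem).symm
    have hzw : z * w * z⁻¹ = w := mul_inv_eq_iff_eq_mul.2
      (mem_centralizer_iff.1 s.w_central z (zpowers_le.2 hvT hz))
    beta_reduce at hw hhC ⊢
    have hyw : y ^ i * w * (y ^ i)⁻¹ = w := by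
      conv_rhs => rw [← hw]
      conv_lhs => rw [← hzw]
      group
    have hyi : y ^ i = 1 := by
      have hxi : y ^ i = y ^ (i % 3) := zpow_eq_zpow_emod' i s.x_pow
      rcases (show i % 3 = 0 ∨ i % 3 = 1 ∨ i % 3 = 2 by omega) with e | e | e <;> rw [hxi, e] at hyw ⊢
      · exact zpow_zero y
      · rw [zpow_one] at hyw
        exact absurd hyw (s.conj_x_not_mem s.w_mem s.w_ne)
      · have hx2 : y ^ (2 : ℤ) = y⁻¹ := by
          rw [show (2 : ℤ) = ((2 : ℕ) : ℤ) from rfl, zpow_natCast]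
          exact eq_inv_of_mul_eq_one_left (by rw [← pow_succ]; exact s.x_pow)
        rw [hx2] at hyw
        exact absurd hyw (s.inv.conj_x_not_mem s.w_mem s.w_ne)
    rw [hyi, one_mul] at hhC ⊢
    exact (eq_one_or_eq_of_mem_zpowers hv2 hz).resolve_right fun e => hvA (e ▸ hhC)
  have hWC : W ≤ centralizer (W : Set G) := gA.wOf_le.2
  have hH6 : 6 ≤ Nat.card H := by
    have hy3 : orderOf y = 3 :=
      haveI : Fact (Nat.Prime 3) := ⟨Nat.prime_three⟩
      orderOf_eq_prime s.x_pow fun e => s.x_not (e ▸ one_mem _)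
    have hv2' : orderOf v = 2 :=
      haveI : Fact (Nat.Prime 2) := ⟨Nat.prime_two⟩
      orderOf_eq_prime (by rw [sq]; exact hv2) fun e => hvQ (e ▸ one_mem _)
    have h1 : 3 ∣ Nat.card H := by
      rw [← hy3, ← Nat.card_zpowers]; exact card_dvd_of_le le_sup_left
    have h2 : 2 ∣ Nat.card H := by
      rw [← hv2', ← Nat.card_zpowers]; exact card_dvd_of_le le_sup_right
    exact Nat.le_of_dvd Nat.card_pos (Nat.Coprime.mul_dvd_of_dvd_of_dvd (by norm_num) h1 h2)
  -- `L₀ = W H`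
  set L₀ := W ⊔ H with hL₀
  have hmul : ∀ l ∈ L₀, ∃ u ∈ W, ∃ h ∈ H, l = u * h := by
    intro l hl
    rw [hL₀, ← SetLike.mem_coe, coe_mul_of_right_le_normalizer_left _ _ hHW] at hl
    obtain ⟨u, hu, h, hh, rfl⟩ := hl
    exact ⟨u, hu, h, hh, rfl⟩
  have hinter : ∀ l ∈ L₀, l ∈ centralizer (W : Set G) → l ∈ W := by
    intro l hl hlC
    obtain ⟨u, hu, h, hh, rfl⟩ := hmul l hl
    rw [hHC h hh (by simpa using mul_mem (inv_mem (hWC hu)) hlC), mul_one]
    exact hu
  set H' := H.subgroupOf L₀ with hH'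
  have hWL₀ : W ≤ L₀ := le_sup_left
  let φ : W → L₀ ⧸ H' := fun u => QuotientGroup.mk ⟨u, hWL₀ u.2⟩
  have hφ : Function.Bijective φ := by
    refine ⟨fun a b e => Subtype.ext ?_, fun z => ?_⟩
    · have e' := (QuotientGroup.eq.1 e : _ ∈ H')
      have h1 : (a : G)⁻¹ * b ∈ H := mem_subgroupOf.1 e'
      exact inv_mul_eq_one.1 (hHC _ h1 (hWC (W.mul_mem (W.inv_mem a.2) b.2)))
    · obtain ⟨l, rfl⟩ := QuotientGroup.mk_surjective z
      obtain ⟨u, hu, h, hh, e⟩ := hmul l l.2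
      refine ⟨⟨u, hu⟩, QuotientGroup.eq.2 (mem_subgroupOf.2 ?_)⟩
      show u⁻¹ * (l : G) ∈ H
      rwa [e, inv_mul_cancel_left]
  have hcardq : Nat.card (L₀ ⧸ H') = 4 :=
    (Nat.card_eq_of_bijective φ hφ).symm.trans s.comp.2.2.2.2.1
  have hinj : Function.Injective (MulAction.toPermHom L₀ (L₀ ⧸ H')) := by
    rw [← MonoidHom.ker_eq_bot_iff, ← normalCore_eq_ker, eq_bot_iff]
    intro n hn
    have hnH : (n : G) ∈ H := mem_subgroupOf.1 (normalCore_le H' hn)
    refine mem_bot.2 (Subtype.ext (hHC n hnH (mem_centralizer_iff.2 fun u hu => ?_)))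
    have h1 := normalCore_normal H' |>.conj_mem n hn ⟨u, hWL₀ hu⟩
    have h2 : u * (n : G) * u⁻¹ * (n : G)⁻¹ ∈ H :=
      H.mul_mem (mem_subgroupOf.1 (normalCore_le H' h1)) (H.inv_mem hnH)
    have h3 : u * (n : G) * u⁻¹ * (n : G)⁻¹ ∈ W := by
      have := W.mul_mem hu (conj_mem hHW hnH (W.inv_mem hu))
      rwa [show u * ((n : G) * u⁻¹ * (n : G)⁻¹) = u * n * u⁻¹ * (n : G)⁻¹ by group] at this
    have h4 := hHC _ h2 (hWC h3)
    rw [mul_inv_eq_one, mul_inv_eq_iff_eq_mul] at h4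
    exact h4
  have e4 : L₀ ⧸ H' ≃ Fin 4 :=
    (Finite.equivFin (L₀ ⧸ H')).trans (finCongr hcardq)
  let ψ : L₀ →* Equiv.Perm (Fin 4) :=
    e4.permCongrHom.toMonoidHom.comp (MulAction.toPermHom L₀ (L₀ ⧸ H'))
  have hψ : Function.Injective ψ := e4.permCongrHom.injective.comp hinj
  have hperm : Nat.card (Equiv.Perm (Fin 4)) = 24 := by
    rw [Nat.card_eq_fintype_card, Fintype.card_perm, Fintype.card_fin]; rfl
  have hL₀24 : Nat.card L₀ = 24 := by
    have h1 := Nat.card_le_card_of_injective ψ hψ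
    rw [hperm] at h1
    have h2 := card_eq_card_quotient_mul_card_subgroup H'
    rw [hcardq, Nat.card_congr (subgroupOfEquivOfLe (show H ≤ L₀ from le_sup_right)).toEquiv] at h2
    omega
  have hiso₀ : Nonempty (L₀ ≃* Equiv.Perm (Fin 4)) := ⟨MulEquiv.ofBijective ψ
    ((Nat.bijective_iff_injective_and_card ψ).2 ⟨hψ, by rw [hL₀24, hperm]⟩)⟩
  have hyL : y ∈ L := Subgroup.le_normalizer s.x_mem
  have hL₀L : L₀ ≤ L := sup_le ((gA.wOf_le.1.trans inf_le_left).trans gA.le_norm)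
    (sup_le (zpowers_le.2 hyL) (zpowers_le.2 (gA.le_norm hvT)))
  refine ⟨fun h4 => ?_, fun h8 => ?_⟩
  · have e : L₀ = L := eq_of_le_of_card_ge hL₀L (by rw [hLcard, h4, hL₀24])
    rw [← e]
    exact hiso₀
  obtain ⟨i₀⟩ := hiso₀
  obtain ⟨q, hq, hqW⟩ : ∃ q ∈ Q, q ∉ W := SetLike.not_le_iff_exists.1 fun h => by
    have := card_le_of_le h
    rw [h8, s.comp.2.2.2.2.1] at this
    omega
  obtain ⟨u, hu, c, hcQ, -, hyc, hvc, rfl⟩ := hdec q hq
  have hc1 : c ≠ 1 := fun e => hqW (by rw [e, mul_one]; exact hu)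
  have hcnot : c ∉ L₀ := fun h => hc1 (s.fpf (hinter c h hcQ.2) hyc)
  have hcc : L₀ ≤ centralizer ({c} : Set G) := by
    rw [hL₀, hH]
    refine sup_le (fun z hz => mem_centralizer_singleton_iff.2
      (mem_centralizer_iff.1 hcQ.2 z hz)) (sup_le ?_ ?_) <;> rw [zpowers_le]
    · exact mem_centralizer_singleton_iff.2 (mul_inv_eq_iff_eq_mul.1 hyc)
    · exact mem_centralizer_singleton_iff.2 (mul_inv_eq_iff_eq_mul.1 hvc)
  have hcsq := hQsq c hcQ
  have hcord : Nat.card (zpowers c) = 2 := by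
    haveI : Fact (Nat.Prime 2) := ⟨Nat.prime_two⟩
    rw [Nat.card_zpowers, orderOf_eq_prime (by rw [sq]; exact hcsq) hc1]
  have comm : ∀ (l : L₀) (z : zpowers c), Commute (L₀.subtype l) ((zpowers c).subtype z) := by
    intro l z
    obtain ⟨z, i, rfl⟩ := z
    exact (show Commute (l : G) c from mem_centralizer_singleton_iff.1 (hcc l.2)).zpow_right i
  let χ := MonoidHom.noncommCoprod L₀.subtype (zpowers c).subtype comm
  have hχ : Function.Injective χ := by
    rw [injective_iff_map_eq_one]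
    rintro ⟨l, z⟩ h
    have h1 : (l : G) * z = 1 := h
    rcases eq_one_or_eq_of_mem_zpowers hcsq z.2 with e | e
    · rw [e, mul_one] at h1
      exact Prod.ext (Subtype.ext h1) (Subtype.ext e)
    · rw [e] at h1
      exact absurd (eq_inv_of_mul_eq_one_right h1 ▸ inv_mem l.2) hcnot
  have hrange : χ.range = L := by
    refine eq_of_le_of_card_ge ?_ ?_
    · rintro _ ⟨⟨l, z⟩, rfl⟩
      exact L.mul_mem (hL₀L l.2) (zpowers_le.2 (gA.le_norm hcQ.1) z.2)
    · rw [hLcard, h8, ← Nat.card_congr (MonoidHom.ofInjective hχ).toEquiv, Nat.card_prod, hcord,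
        hL₀24]
  have i₁ : zpowers c ≃* Multiplicative (ZMod 2) := mulEquivOfCyclicCardEq (by
    rw [hcord, Nat.card_congr Multiplicative.toAdd, Nat.card_zmod])
  exact ⟨((MulEquiv.subgroupCongr hrange).symm.trans (MonoidHom.ofInjective hχ).symm).trans
    (MulEquiv.prodCongr i₀ i₁)⟩

end Cfsg.Agent.Lib.JComp
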